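import Cfsg.Agent.ChevGroup.Step

/-!
A matrix realisation in which positive root elements are unitriangular, `H` is diagonal and the `n i` are
monomial on the root coordinates: disjointness of cells, `U ∩ H = 1`, and the orders of `U` and `B`.
-/

set_option autoImplicit false

namespace Cfsg.Agent.ChevGroup

variable {Φ I : Type*} {G : Type*} [Group G] {F : Type*} [Field F] {S : RootIdx Φ I}

/-- A triangular matrix for `key` with non-zero diagonal. -/
def Tri {ι : Type*} (key : ι → ℤ) (M : Matrix ι ι F) : Prop :=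
  (∀ a b, a ≠ b → key a ≤ key b → M a b = 0) ∧ ∀ a, M a a ≠ 0

/-- A unitriangular matrix for `key`. -/
def Uni {ι : Type*} [DecidableEq ι] (key : ι → ℤ) (M : Matrix ι ι F) : Prop :=
  ∀ a b, key a ≤ key b → M a b = if a = b then 1 else 0

lemma Tri.mul {ι : Type*} [Fintype ι] {key : ι → ℤ} {M N : Matrix ι ι F} (hM : Tri key M)
    (hN : Tri key N) : Tri key (M * N) := by
  refine ⟨fun a b hab hk => ?_, fun a => ?_⟩
  · rw [Matrix.mul_apply]
    refine Finset.sum_eq_zero fun c _ => ?_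
    rcases eq_or_ne a c with rfl | hac
    · rw [hN.1 a b hab hk, mul_zero]
    · rcases le_or_gt (key a) (key c) with h | h
      · rw [hM.1 a c hac h, zero_mul]
      · rw [hN.1 c b (fun hcb => by subst hcb; omega) (h.le.trans hk), mul_zero]
  · rw [Matrix.mul_apply, Finset.sum_eq_single a]
    · exact mul_ne_zero (hM.2 a) (hN.2 a)
    · intro c _ hca
      rcases le_or_gt (key a) (key c) with h | h
      · rw [hM.1 a c hca.symm h, zero_mul]
      · rw [hN.1 c a hca h.le, mul_zero]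
    · simp

lemma Uni.mul {ι : Type*} [Fintype ι] [DecidableEq ι] {key : ι → ℤ} {M N : Matrix ι ι F}
    (hM : Uni key M) (hN : Uni key N) : Uni key (M * N) := by
  intro a b hk
  rw [Matrix.mul_apply, Finset.sum_eq_single a]
  · rw [hM a a le_rfl, if_pos rfl, one_mul, hN a b hk]
  · intro c _ hca
    rcases le_or_gt (key a) (key c) with h | h
    · rw [hM a c h, if_neg hca.symm, zero_mul]
    · rw [hN c b (h.le.trans hk), if_neg (fun hcb => by subst hcb; omega), mul_zero]
  · simp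

lemma Uni.tri {ι : Type*} [DecidableEq ι] {key : ι → ℤ} {M : Matrix ι ι F} (hM : Uni key M) :
    Tri key M :=
  ⟨fun a b hab hk => by rw [hM a b hk, if_neg hab], fun a => by rw [hM a a le_rfl, if_pos rfl]; exact one_ne_zero⟩

/-- The matrix realisation. -/
structure Shape (R : RootRel G F S) (ι : Type*) [Fintype ι] [DecidableEq ι] where
  ρ : G →* GL ι F
  inj : Function.Injective ρ
  e : Φ → ι
  e_inj : Function.Injective e
  key : ι → ℤ
  uni_pos : ∀ r t, S.pos r → Uni key (ρ (R.x r t) : Matrix ι ι F)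
  uni_neg : ∀ r t, S.pos r → Uni (fun a => -key a) (ρ (R.x (S.neg r) t) : Matrix ι ι F)
  diag : ∀ r c a b, c ≠ 0 → a ≠ b → (ρ (R.hr r c) : Matrix ι ι F) a b = 0
  mono : ∀ i r a, a ≠ e (S.refl i r) → (ρ (R.n i) : Matrix ι ι F) a (e r) = 0

namespace Shape

variable {R : RootRel G F S} {ι : Type*} [Fintype ι] [DecidableEq ι] (M : Shape R ι)

/-- The matrix of `g`. -/
abbrev mat (g : G) : Matrix ι ι F := (M.ρ g : Matrix ι ι F)

lemma mat_mul (g h : G) : M.mat (g * h) = M.mat g * M.mat h := by simp [mat]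

lemma mat_one : M.mat 1 = 1 := by simp [mat]

lemma mat_inj {g h : G} (e : M.mat g = M.mat h) : g = h := M.inj (Units.ext e)

lemma eq_one {g : G} (h : M.mat g = 1) : g = 1 := M.mat_inj (by rw [h, M.mat_one])

lemma uni_of_U {u : G} (hu : u ∈ R.U) : Uni M.key (M.mat u) := by
  induction hu using Subgroup.closure_induction'' with
  | mem g hg => obtain ⟨r, t, hr, rfl⟩ := hg; exact M.uni_pos r t hr
  | inv_mem g hg => obtain ⟨r, t, hr, rfl⟩ := hg; rw [← R.x_neg]; exact M.uni_pos r _ hr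
  | one => rw [M.mat_one]; intro a b _; simp [Matrix.one_apply]
  | mul g h _ _ hg hh => rw [M.mat_mul]; exact hg.mul hh

lemma diag_of_H {h : G} (hh : h ∈ R.H) : ∀ a b, a ≠ b → M.mat h a b = 0 := by
  have hdiag : ∀ g, (∀ a b, a ≠ b → M.mat g a b = 0) → ∀ a b, a ≠ b → M.mat g⁻¹ a b = 0 := by
    intro g hg a b hab
    have h1 : (M.mat g * M.mat g⁻¹) a b = 0 := by
      rw [← M.mat_mul, mul_inv_cancel, M.mat_one]; simp [hab]
    have h2 : (M.mat g * M.mat g⁻¹) a a = 1 := by
      rw [← M.mat_mul, mul_inv_cancel, M.mat_one]; simp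
    have hsum : ∀ x, (M.mat g * M.mat g⁻¹) a x = M.mat g a a * M.mat g⁻¹ a x := by
      intro x
      rw [Matrix.mul_apply, Finset.sum_eq_single a]
      · intro c _ hca; rw [hg a c hca.symm, zero_mul]
      · simp
    rw [hsum] at h1 h2
    exact (mul_eq_zero.1 h1).resolve_left fun h => by simp [h] at h2
  induction hh using Subgroup.closure_induction with
  | mem g hg => obtain ⟨r, c, hc, rfl⟩ := hg; exact fun a b hab => M.diag r c a b hc hab
  | one => intro a b hab; rw [M.mat_one]; simp [hab]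
  | mul g h _ _ hg hh =>
    intro a b hab
    rw [M.mat_mul, Matrix.mul_apply]
    refine Finset.sum_eq_zero fun c _ => ?_
    rcases eq_or_ne a c with rfl | hac
    · rw [hh a b hab, mul_zero]
    · rw [hg a c hac, zero_mul]
  | inv g _ hg => exact hdiag g hg

lemma tri_of_B {b : G} (hb : b ∈ R.B) : Tri M.key (M.mat b) := by
  obtain ⟨u, hu, h, hh, rfl⟩ := R.mem_B_iff.1 hb
  rw [M.mat_mul]
  refine (M.uni_of_U hu).tri.mul ⟨fun a c hac _ => M.diag_of_H hh a c hac, fun a h0 => ?_⟩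
  have h2 : (M.mat h * M.mat h⁻¹) a a = 1 := by rw [← M.mat_mul, mul_inv_cancel, M.mat_one]; simp
  rw [Matrix.mul_apply, Finset.sum_eq_single a] at h2
  · simp [h0] at h2
  · intro c _ hca; rw [M.diag_of_H hh a c hca.symm, zero_mul]
  · simp

include M in
lemma U_inter_H {g : G} (hu : g ∈ R.U) (hh : g ∈ R.H) : g = 1 := by
  refine M.eq_one ?_
  ext a b
  rcases eq_or_ne a b with rfl | hab
  · rw [M.uni_of_U hu a a le_rfl]; simp
  · rw [M.diag_of_H hh a b hab]; simp [hab]

lemma mono_word (w : List I) (r : Φ) (a : ι) (ha : a ≠ M.e (S.actw w r)) :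
    M.mat (R.nw w) a (M.e r) = 0 := by
  induction w generalizing a with
  | nil => rw [R.nw_nil, M.mat_one]; simp at ha ⊢; simp [ha]
  | cons i w ih =>
    rw [R.nw_cons, M.mat_mul, Matrix.mul_apply]
    refine Finset.sum_eq_zero fun c _ => ?_
    by_cases hc : c = M.e (S.actw w r)
    · subst hc
      have h0 : M.mat (R.n i) a (M.e (S.actw w r)) = 0 := M.mono i _ a ha
      rw [h0, zero_mul]
    · rw [ih c hc, mul_zero]

lemma mono_word_ne (w : List I) (r : Φ) : M.mat (R.nw w) (M.e (S.actw w r)) (M.e r) ≠ 0 := by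
  intro h0
  have h2 : (M.mat (R.nw w)⁻¹ * M.mat (R.nw w)) (M.e r) (M.e r) = 1 := by
    rw [← M.mat_mul, inv_mul_cancel, M.mat_one]; simp
  rw [Matrix.mul_apply] at h2
  rw [Finset.sum_eq_zero fun c _ => ?_] at h2
  · exact zero_ne_one h2
  · by_cases hc : c = M.e (S.actw w r)
    · subst hc; rw [h0, mul_zero]
    · rw [M.mono_word w r c hc, mul_zero]

/-- The span of the coordinates of the roots in `T` is invariant under `g`. -/
def Pres (T : Φ → Prop) (g : G) : Prop :=
  ∀ r, T r → ∀ a, (∀ s, T s → a ≠ M.e s) → M.mat g a (M.e r) = 0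

lemma pres_mul {T : Φ → Prop} {g h : G} (hg : M.Pres T g) (hh : M.Pres T h) : M.Pres T (g * h) := by
  intro r hr a ha
  rw [M.mat_mul, Matrix.mul_apply]
  refine Finset.sum_eq_zero fun c _ => ?_
  by_cases hc : ∃ s, T s ∧ c = M.e s
  · obtain ⟨s, hs, rfl⟩ := hc
    rw [hg s hs a ha, zero_mul]
  · rw [hh r hr c fun s hs e => hc ⟨s, hs, e⟩, mul_zero]

lemma pres_of_diag {T : Φ → Prop} {h : G} (hh : h ∈ R.H) : M.Pres T h :=
  fun r hr a ha => M.diag_of_H hh a _ (ha r hr)

lemma pres_par {T : Φ → Prop} {J : List I}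
    (hx : ∀ r t, S.pos r → M.Pres T (R.x r t)) (hn : ∀ j ∈ J, ∀ r, T r → T (S.refl j r))
    {p : G} (hp : p ∈ R.par J) : M.Pres T p := by
  have hone : M.Pres T 1 := M.pres_of_diag (one_mem _)
  have hB : ∀ b ∈ R.B, M.Pres T b := by
    intro b hb
    obtain ⟨u, hu, h, hh, rfl⟩ := R.mem_B_iff.1 hb
    refine M.pres_mul ?_ (M.pres_of_diag hh)
    clear hb hh
    induction hu using Subgroup.closure_induction'' with
    | mem g hg => obtain ⟨r, t, hr, rfl⟩ := hg; exact hx r t hr
    | inv_mem g hg => obtain ⟨r, t, hr, rfl⟩ := hg; rw [← R.x_neg]; exact hx r _ hr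
    | one => exact hone
    | mul g h _ _ hg hh => exact M.pres_mul hg hh
  have hN : ∀ j ∈ J, M.Pres T (R.n j) := by
    intro j hj r hr a ha
    exact M.mono j r a (ha _ (hn j hj r hr))
  rw [RootRel.par, ← Subgroup.closure_eq R.B, ← Subgroup.closure_union] at hp
  induction hp using Subgroup.closure_induction'' with
  | mem g hg =>
    rcases hg with hg | ⟨j, hj, rfl⟩
    · exact hB g hg
    · exact hN j hj
  | inv_mem g hg =>
    rcases hg with hg | ⟨j, hj, rfl⟩
    · exact hB _ (inv_mem hg)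
    · have e : (R.n j)⁻¹ = R.n j * (R.n j * R.n j)⁻¹ := by group
      rw [e]
      exact M.pres_mul (hN j hj) (M.pres_of_diag (inv_mem (R.n_sq_mem_H j)))
  | one => exact hone
  | mul g h _ _ hg hh => exact M.pres_mul hg hh

/-- Equal cells have the same image of `T`. -/
lemma image_of_cell_eq {T : Φ → Prop} {P : Subgroup G} (hP : ∀ p ∈ P, M.Pres T p) {w v : List I}
    (h : cell R.B P (R.nw w) = cell R.B P (R.nw v)) :
    ∀ r, T r → ∃ s, T s ∧ S.actw w r = S.actw v s := by
  intro r hr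
  have hm := self_mem_cell R.B P (R.nw v)
  rw [← h, mem_cell] at hm
  obtain ⟨b, hb, hbe⟩ := hm
  rw [QuotientGroup.eq] at hbe
  have e2 : b * R.nw w = R.nw v * ((b * R.nw w)⁻¹ * R.nw v)⁻¹ := by group
  have hp := hP _ (inv_mem hbe)
  set a := M.e (S.actw w r) with ha
  have hne : M.mat (b * R.nw w) a (M.e r) ≠ 0 := by
    rw [M.mat_mul, Matrix.mul_apply, Finset.sum_eq_single a]
    · exact mul_ne_zero ((M.tri_of_B hb).2 a) (M.mono_word_ne w r)
    · intro c _ hca; rw [M.mono_word w r c hca, mul_zero]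
    · simp
  rw [e2, M.mat_mul, Matrix.mul_apply] at hne
  obtain ⟨c, -, hc⟩ := Finset.exists_ne_zero_of_sum_ne_zero hne
  obtain ⟨hc1, hc2⟩ := ne_zero_and_ne_zero_of_mul hc
  have : ∃ s, T s ∧ c = M.e s := by
    by_contra hcon
    exact hc2 (hp r hr c fun s hs e => hcon ⟨s, hs, e⟩)
  obtain ⟨s, hs, rfl⟩ := this
  refine ⟨s, hs, M.e_inj ?_⟩
  by_contra hcon
  exact hc1 (M.mono_word v s _ hcon)

/-- Along a reduced word the cells in `G ⧸ B` have size `q ^ length`. -/
lemma card_cell_word [Finite F] (hT : ∀ r t, S.pos r → M.Pres S.pos (R.x r t)) :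
    ∀ w : List I,
      (∀ v i u, w = v ++ i :: u → S.pos (S.actw u.reverse (S.simple i))) →
      Nat.card (cell R.B R.B (R.nw w)) = Nat.card F ^ w.length := by
  intro w
  induction w with
  | nil => intro _; rw [R.nw_nil, cell_one le_rfl (one_mem _)]; simp
  | cons i u ih =>
    intro hred
    have hpos := hred [] i u rfl
    have hu := ih fun v j u' e => hred (i :: v) j u' (by rw [e]; rfl)
    have hP : ∀ p ∈ R.B, M.Pres S.pos p := fun p hp =>
      M.pres_par (J := []) hT (fun j hj => by simp at hj) (R.B_le_par _ hp)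
    have hup : Up R.B R.B (R.n i) (R.nw u) (R.nw (i :: u)) := by
      intro z hz
      obtain ⟨b, hb, rfl⟩ := mem_cell.1 hz
      obtain ⟨u', hu', h', hh', t, rfl⟩ := R.B_decomp i hb
      obtain ⟨e, hx⟩ := R.nw_inv_conj_x u (S.simple i) t
      refine mem_cell.2 ⟨(R.n i * u' * (R.n i)⁻¹) * (R.n i * h' * (R.n i)⁻¹),
        mul_mem (R.U_le_B (R.Ui_le_U i (R.n_conj_Ui i hu'))) (R.H_le_B (R.n_conj_mem_H i hh')), ?_⟩
      show _ = ((R.n i * (u' * h' * R.x (S.simple i) t * R.nw u) : G) : G ⧸ R.B)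
      refine QuotientGroup.eq.2 ?_
      have := R.x_mem_B hpos (e * t)
      rw [← hx] at this
      simpa [mul_assoc] using this
    have hne : cell R.B R.B (R.nw u) ≠ cell R.B R.B (R.nw (i :: u)) := by
      intro h
      obtain ⟨s, hs, he⟩ := M.image_of_cell_eq hP h.symm _ hpos
      rw [S.actw_cons, S.actw_reverse, S.refl_simple] at he
      have h2 : s = S.neg (S.actw u.reverse (S.simple i)) := by
        rw [← S.actw_neg, he]
        have := S.actw_reverse u.reverse s
        rw [List.reverse_reverse] at this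
        exact this.symm
      exact S.not_pos_neg _ hpos (h2 ▸ hs)
    rw [card_cell_up (R.x (S.simple i)) (fun t => R.x_mem_B (S.simple_pos i) t)
      (fun b hb => R.B_mul_n i hb) (fun s t hst => R.x_n_sep i hst) hup hne, hu, List.length_cons,
      pow_succ']

/-- `|U| = q ^ N`. -/
theorem card_U [Finite F] (hT : ∀ r t, S.pos r → M.Pres S.pos (R.x r t)) (w : List I)
    (hred : ∀ v i u, w = v ++ i :: u → S.pos (S.actw u.reverse (S.simple i)))
    (hneg : ∀ r, S.pos r → S.pos (S.neg (S.actw w.reverse r))) :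
    Nat.card R.U = Nat.card F ^ w.length := by
  rw [← M.card_cell_word hT w hred]
  have hlow : ∀ u ∈ R.U, Uni (fun a => -M.key a) (M.mat ((R.nw w)⁻¹ * u * R.nw w)) := by
    intro u hu
    induction hu using Subgroup.closure_induction'' with
    | mem g hg =>
      obtain ⟨r, t, hr, rfl⟩ := hg
      obtain ⟨e, he⟩ := R.nw_inv_conj_x w r t
      rw [he, ← S.neg_neg (S.actw w.reverse r)]
      exact M.uni_neg _ _ (hneg r hr)
    | inv_mem g hg =>
      obtain ⟨r, t, hr, rfl⟩ := hg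
      obtain ⟨e, he⟩ := R.nw_inv_conj_x w r (-t)
      rw [← R.x_neg, he, ← S.neg_neg (S.actw w.reverse r)]
      exact M.uni_neg _ _ (hneg r hr)
    | one => simp only [mul_one, inv_mul_cancel]; rw [M.mat_one]; intro a b _; simp [Matrix.one_apply]
    | mul g h _ _ hg hh =>
      have e : (R.nw w)⁻¹ * (g * h) * R.nw w =
          ((R.nw w)⁻¹ * g * R.nw w) * ((R.nw w)⁻¹ * h * R.nw w) := by group
      rw [e, M.mat_mul]; exact hg.mul hh
  apply Nat.card_congr
  refine Equiv.ofBijective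
    (fun u : R.U => ⟨((u.1 * R.nw w : G) : G ⧸ R.B), mem_cell.2 ⟨u.1, R.U_le_B u.2, rfl⟩⟩) ⟨?_, ?_⟩
  · rintro ⟨u, hu⟩ ⟨u', hu'⟩ h
    simp only [Subtype.mk.injEq] at h
    rw [QuotientGroup.eq] at h
    refine Subtype.ext ?_
    have e : (u * R.nw w)⁻¹ * (u' * R.nw w) = (R.nw w)⁻¹ * (u⁻¹ * u') * R.nw w := by group
    rw [e] at h
    have h1 := M.tri_of_B h
    have h2 := hlow _ (mul_mem (inv_mem hu) hu')
    have h3 : (R.nw w)⁻¹ * (u⁻¹ * u') * R.nw w = 1 := by
      refine M.eq_one ?_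
      ext a b
      rcases eq_or_ne a b with rfl | hab
      · rw [h2 a a le_rfl]; simp
      · rcases le_total (M.key a) (M.key b) with hk | hk
        · rw [h1.1 a b hab hk]; simp [hab]
        · rw [h2 a b (neg_le_neg hk)]; simp [hab]
    have h4 : u⁻¹ * u' = 1 := by
      have := congrArg (fun g => R.nw w * g * (R.nw w)⁻¹) h3
      simpa [mul_assoc] using this
    exact inv_mul_eq_one.1 h4
  · rintro ⟨c, hc⟩
    obtain ⟨b, hb, rfl⟩ := mem_cell.1 hc
    obtain ⟨u, hu, h, hh, rfl⟩ := R.mem_B_iff.1 hb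
    refine ⟨⟨u, hu⟩, Subtype.ext ?_⟩
    show ((u * R.nw w : G) : G ⧸ R.B) = ((u * h * R.nw w : G) : G ⧸ R.B)
    refine QuotientGroup.eq.2 ?_
    have := R.H_le_B (R.nw_inv_conj_mem_H w hh)
    simpa [mul_assoc] using this

include M in
theorem card_B : Nat.card R.B = Nat.card R.U * Nat.card R.H := by
  rw [← Nat.card_prod]
  refine (Nat.card_congr (Equiv.ofBijective
    (fun p : R.U × R.H => (⟨p.1.1 * p.2.1, mul_mem (R.U_le_B p.1.2) (R.H_le_B p.2.2)⟩ : R.B))
    ⟨?_, ?_⟩)).symm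
  · rintro ⟨⟨u, hu⟩, ⟨h, hh⟩⟩ ⟨⟨u', hu'⟩, ⟨h', hh'⟩⟩ e
    simp only [Subtype.mk.injEq] at e
    have e1 : u'⁻¹ * u = h' * h⁻¹ := by
      rw [eq_mul_inv_iff_mul_eq, mul_assoc, e, inv_mul_cancel_left]
    have e2 := M.U_inter_H (mul_mem (inv_mem hu') hu) (e1 ▸ mul_mem hh' (inv_mem hh))
    have e3 := inv_mul_eq_one.1 e2
    subst e3
    simp only [Prod.mk.injEq, Subtype.mk.injEq, true_and]
    exact mul_left_cancel e
  · rintro ⟨b, hb⟩
    obtain ⟨u, hu, h, hh, rfl⟩ := R.mem_B_iff.1 hb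
    exact ⟨⟨⟨u, hu⟩, ⟨h, hh⟩⟩, rfl⟩

end Shape

end Cfsg.Agent.ChevGroup
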