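import Cfsg.Agent.ChevGroup.Exchange
import Cfsg.Agent.ChevGroup.Shape

/-!
Simplicity: if the group is generated by `B` and the `n i`, every root element is a product of commutators
and the fundamental roots are connected, then the group is simple.
-/

set_option autoImplicit false

open scoped commutatorElement

namespace Cfsg.Agent.ChevGroup

variable {Φ I : Type*} {S : RootIdx Φ I}

/-- `j` is reached from `i` in one step of the connectivity argument. -/
def RootIdx.Link (S : RootIdx Φ I) (p q : I) : Prop :=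
  S.pos (S.refl q (S.refl p (S.simple q))) ∧ S.pos (S.actw [q, p, q] (S.neg (S.simple q)))

/-- Entries of `M - 1` vanish unless the key rises by at least `d`. -/
def Lvl {F : Type*} [Field F] {ι : Type*} [DecidableEq ι] (key : ι → ℤ) (d : ℤ) (M : Matrix ι ι F) :
    Prop :=
  ∀ a b, key a < key b + d → (M - 1) a b = 0

lemma Lvl.mul_raise {F : Type*} [Field F] {ι : Type*} [Fintype ι] {key : ι → ℤ} {d e f : ℤ}
    {P Q : Matrix ι ι F} (hP : ∀ a b, key a < key b + d → P a b = 0)
    (hQ : ∀ a b, key a < key b + e → Q a b = 0) (hf : f ≤ d + e) :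
    ∀ a b, key a < key b + f → (P * Q) a b = 0 := by
  intro a b hk
  rw [Matrix.mul_apply]
  refine Finset.sum_eq_zero fun c _ => ?_
  by_cases h : key a < key c + d
  · rw [hP a c h, zero_mul]
  · rw [hQ c b (by omega), mul_zero]

namespace Shape

variable {G : Type*} [Group G] {F : Type*} [Field F] {R : RootRel G F S} {ι : Type*} [Fintype ι]
  [DecidableEq ι] (M : Shape R ι)

include M in
lemma eq_one_of_low {g : G} (hu : g ∈ R.U) (h : Uni (fun a => -M.key a) (M.mat g)) : g = 1 := by
  refine M.eq_one ?_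
  ext a b
  rcases eq_or_ne a b with rfl | hab
  · rw [h a a le_rfl]; simp
  · rcases le_total (M.key a) (M.key b) with hk | hk
    · rw [M.uni_of_U hu a b hk]; simp [hab]
    · rw [h a b (neg_le_neg hk)]; simp [hab]

lemma diag_inter_uni {key : ι → ℤ} {g : G} (hh : g ∈ R.H) (h : Uni key (M.mat g)) : g = 1 := by
  refine M.eq_one ?_
  ext a b
  rcases eq_or_ne a b with rfl | hab
  · rw [h a a le_rfl]; simp
  · rw [M.diag_of_H hh a b hab]; simp [hab]

lemma lvl_one {u : G} (hu : u ∈ R.U) : Lvl M.key 1 (M.mat u) := by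
  intro a b hk
  rw [Matrix.sub_apply, M.uni_of_U hu a b (by omega), Matrix.one_apply, sub_self]

lemma lvl_derived (n : ℕ) : ∀ u ∈ derivedSeries R.U n, Lvl M.key ((n : ℤ) + 1) (M.mat (u : G)) := by
  induction n with
  | zero => intro u _; simpa using M.lvl_one u.2
  | succ n ih =>
    intro u hu
    rw [derivedSeries_succ, Subgroup.commutator_def] at hu
    have h1 : (1 : ℤ) ≤ (n : ℤ) + 1 := by omega
    have hinv : ∀ g : R.U, ∀ d, Lvl M.key d (M.mat (g : G)) → Lvl M.key d (M.mat ((g⁻¹ : R.U) : G)) := by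
      intro g d hg a b hk
      have e : M.mat ((g⁻¹ : R.U) : G) - 1 =
          -((M.mat (g : G) - 1) * M.mat ((g⁻¹ : R.U) : G)) := by
        rw [sub_mul, one_mul, ← M.mat_mul]
        simp [M.mat_one]
      rw [e, Matrix.neg_apply, Lvl.mul_raise (Q := M.mat ((g⁻¹ : R.U) : G)) (e := 0) hg ?_ (by omega) a b hk,
        neg_zero]
      intro x y hxy
      rw [M.uni_of_U (g⁻¹).2 x y (by omega), if_neg (fun h => by subst h; omega)]
    induction hu using Subgroup.closure_induction with
    | mem g hg =>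
      obtain ⟨p, hp, q, hq, rfl⟩ := hg
      have hP := ih p hp
      have hQ := ih q hq
      intro a b hk
      have e : M.mat ((⁅p, q⁆ : R.U) : G) - 1 =
          ((M.mat (p : G) - 1) * (M.mat (q : G) - 1) - (M.mat (q : G) - 1) * (M.mat (p : G) - 1)) *
            M.mat (((q * p)⁻¹ : R.U) : G) := by
        have e1 : (M.mat (p : G) - 1) * (M.mat (q : G) - 1) - (M.mat (q : G) - 1) * (M.mat (p : G) - 1) =
            M.mat ((p : G) * q) - M.mat ((q : G) * p) := by
          rw [M.mat_mul, M.mat_mul]; noncomm_ring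
        rw [e1, sub_mul, ← M.mat_mul, ← M.mat_mul]
        simp [commutatorElement_def, mul_assoc, M.mat_one]
      rw [e]
      refine Lvl.mul_raise (d := (n : ℤ) + 1 + ((n : ℤ) + 1)) (e := 0) ?_ ?_ (by push_cast; omega) a b hk
      · intro x y hxy
        rw [Matrix.sub_apply, Lvl.mul_raise hP hQ le_rfl x y hxy, Lvl.mul_raise hQ hP le_rfl x y hxy,
          sub_self]
      · intro x y hxy
        rw [M.uni_of_U ((q * p)⁻¹).2 x y (by omega), if_neg (fun h => by subst h; omega)]
    | one => intro a b _; simp [M.mat_one]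
    | mul g g' _ _ hg hg' =>
      intro a b hk
      have e : M.mat ((g * g' : R.U) : G) - 1 =
          (M.mat (g : G) - 1) * M.mat (g' : G) + (M.mat (g' : G) - 1) := by
        rw [sub_mul, one_mul, ← M.mat_mul]; simp
      rw [e, Matrix.add_apply, hg' a b hk,
        Lvl.mul_raise (Q := M.mat (g' : G)) (e := 0) hg ?_ (by omega) a b hk, add_zero]
      intro x y hxy
      rw [M.uni_of_U g'.2 x y (by omega), if_neg (fun h => by subst h; omega)]
    | inv g _ hg => exact hinv g _ hg

include M in
lemma isSolvable_U : Group.IsSolvable R.U := by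
  obtain ⟨N, hN⟩ : ∃ N : ℕ, ∀ a b : ι, M.key a < M.key b + ((N : ℤ) + 1) := by
    refine ⟨Finset.univ.sup (fun p : ι × ι => (M.key p.1 - M.key p.2).toNat), fun a b => ?_⟩
    have := Finset.le_sup (f := fun p : ι × ι => (M.key p.1 - M.key p.2).toNat) (Finset.mem_univ (a, b))
    simp only at this
    omega
  refine ⟨N, le_bot_iff.1 fun u hu => ?_⟩
  refine Subgroup.mem_bot.2 (Subtype.ext (M.eq_one ?_))
  rw [← sub_eq_zero]
  ext a b
  exact M.lvl_derived N u hu a b (hN a b)

include M in
/-- A word acting trivially on the roots lies in `H`. -/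
lemma nw_mem_H (hxne : ∀ r t, R.x r t = 1 → t = 0) {w : List I} (h : ∀ r, S.actw w r = r) :
    R.nw w ∈ R.H := by
  obtain ⟨v, hv, -, -, h', hh', e⟩ := R.exists_red w
  cases v with
  | nil => rw [e, R.nw_nil, mul_one]; exact hh'
  | cons i u =>
    exfalso
    obtain ⟨hp, he⟩ := S.red_cons_root hv
    set r := S.actw u.reverse (S.simple i) with hr
    obtain ⟨a, ha, hs⟩ := R.H_scales hh' (S.actw (i :: u) r)
    obtain ⟨c, hc, h1⟩ := R.nw_conj (i :: u) r
    obtain ⟨d, hd, h2⟩ := R.nw_conj w r
    rw [h r] at h2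
    have key : R.x r (d * 1) = R.x (S.neg (S.simple i)) (a * (c * 1)) := by
      rw [← h2, e, ← he, ← hs, ← h1]
      group
    have hone : R.x r (d * 1) = 1 :=
      M.eq_one_of_low (R.x_mem_U hp _) (key ▸ M.uni_neg _ _ (S.simple_pos i))
    have := hxne _ _ hone
    simp only [mul_one] at this
    simp [this] at hd

include M in
/-- The simplicity criterion. -/
theorem isSimple
    (hgen : R.B ⊔ Subgroup.closure (Set.range R.n) = ⊤) (w0 : List I)
    (hneg : ∀ r, S.pos r → S.pos (S.neg (S.actw w0.reverse r)))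
    (hxne : ∀ r t, R.x r t = 1 → t = 0)
    (hfaith : ∀ h ∈ R.H, (∀ r t, h * R.x r t = R.x r t * h) → h = 1)
    (hlink : ∀ i j, Relation.ReflTransGen S.Link i j)
    (hperf : ∀ r t, R.x r t ∈ commutator G) (hI : Nonempty I) :
    IsSimpleGroup G ∧ ¬ IsMulCommutative G := by
  have hXtop : commutator G = ⊤ := by
    rw [eq_top_iff, ← hgen]
    have hn : ∀ r c, R.nr r c ∈ commutator G := fun r c =>
      mul_mem (mul_mem (hperf _ _) (hperf _ _)) (hperf _ _)
    refine sup_le (sup_le ?_ ?_) ?_
    · exact (Subgroup.closure_le _).2 fun _ ⟨r, t, _, e⟩ => e ▸ hperf r t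
    · exact (Subgroup.closure_le _).2 fun _ ⟨r, c, _, e⟩ => e ▸ mul_mem (hn _ _) (hn _ _)
    · exact (Subgroup.closure_le _).2 fun _ ⟨i, e⟩ => e ▸ hn _ _
  obtain ⟨i₀⟩ := hI
  have hnt : Nontrivial G := by
    refine ⟨R.x (S.simple i₀) 1, 1, fun h => ?_⟩
    exact one_ne_zero (hxne _ _ h)
  refine ⟨IsSimpleGroup.mk fun K hK => ?_, fun hc => ?_⟩
  swap
  · have hbot : commutator G = ⊥ := by
      rw [commutator_def, Subgroup.commutator_eq_bot_iff_le_centralizer]
      intro x _
      rw [Subgroup.mem_centralizer_iff]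
      intro y _
      exact hc.is_comm.comm y x
    exact top_ne_bot (hXtop.symm.trans hbot)
  -- the core of `B` is trivial
  by_cases hKB : K ≤ R.B
  · left
    rw [eq_bot_iff]
    intro g hg
    rw [Subgroup.mem_bot]
    have hH : ∀ g ∈ K, g ∈ R.H := by
      intro g hg
      obtain ⟨u, hu, h, hh, rfl⟩ := R.mem_B_iff.1 (hKB hg)
      have h1 := hKB (hK.conj_mem _ hg (R.nw w0)⁻¹)
      rw [inv_inv] at h1
      have hlow : ∀ u ∈ R.U, Uni (fun a => -M.key a) (M.mat ((R.nw w0)⁻¹ * u * R.nw w0)) := by
        intro u hu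
        induction hu using Subgroup.closure_induction'' with
        | mem g hg =>
          obtain ⟨r, t, hr, rfl⟩ := hg
          obtain ⟨e, he⟩ := R.nw_inv_conj_x w0 r t
          rw [he, ← S.neg_neg (S.actw w0.reverse r)]
          exact M.uni_neg _ _ (hneg r hr)
        | inv_mem g hg =>
          obtain ⟨r, t, hr, rfl⟩ := hg
          obtain ⟨e, he⟩ := R.nw_inv_conj_x w0 r (-t)
          rw [← R.x_neg, he, ← S.neg_neg (S.actw w0.reverse r)]
          exact M.uni_neg _ _ (hneg r hr)
        | one => simp only [mul_one, inv_mul_cancel]; rw [M.mat_one]; intro a b _; simp [Matrix.one_apply]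
        | mul g h _ _ hg hh =>
          have e : (R.nw w0)⁻¹ * (g * h) * R.nw w0 =
              ((R.nw w0)⁻¹ * g * R.nw w0) * ((R.nw w0)⁻¹ * h * R.nw w0) := by group
          rw [e, M.mat_mul]; exact hg.mul hh
      have h2 : (R.nw w0)⁻¹ * u * R.nw w0 ∈ R.B := by
        have := mul_mem h1 (R.H_le_B (inv_mem (R.nw_inv_conj_mem_H w0 hh)))
        simpa [mul_assoc] using this
      have h3 : (R.nw w0)⁻¹ * u * R.nw w0 = 1 := by
        refine M.eq_one ?_
        have ht := M.tri_of_B h2
        have hl := hlow u hu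
        ext a b
        rcases eq_or_ne a b with rfl | hab
        · rw [hl a a le_rfl]; simp
        · rcases le_total (M.key a) (M.key b) with hk | hk
          · rw [ht.1 a b hab hk]; simp [hab]
          · rw [hl a b (neg_le_neg hk)]; simp [hab]
      have h4 : u = 1 := by
        have := congrArg (fun g => R.nw w0 * g * (R.nw w0)⁻¹) h3
        simpa [mul_assoc] using this
      rwa [h4, one_mul]
    refine hfaith g (hH g hg) fun r t => ?_
    obtain ⟨a, ha, hs⟩ := R.H_scales (hH g hg) r
    have hc : g * R.x r t * g⁻¹ * (R.x r t)⁻¹ ∈ K := by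
      have := mul_mem hg (hK.conj_mem _ (inv_mem hg) (R.x r t))
      simpa [mul_assoc] using this
    have hc' := hH _ hc
    rw [hs, ← R.x_neg, ← R.x_add] at hc'
    have hone : R.x r (a * t + -t) = 1 := by
      rcases S.pos_or_neg r with hr | hr
      · exact M.diag_inter_uni hc' (M.uni_pos r _ hr)
      · refine M.diag_inter_uni (key := fun x => -M.key x) hc' ?_
        have := M.uni_neg (S.neg r) (a * t + -t) hr
        rwa [S.neg_neg] at this
    have e := hxne _ _ hone
    rw [← sub_eq_add_neg, sub_eq_zero] at e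
    rw [← mul_inv_eq_iff_eq_mul, hs, e]
  · right
    set L := K ⊔ R.B with hL
    have hKL : K ≤ L := le_sup_left
    have hBL : R.B ≤ L := le_sup_right
    -- a fundamental `n i` whose negative root group lies in `L`
    have hroot : ∀ (i : I) (w : List I) (r : Φ), S.pos r → S.actw w r = S.neg (S.simple i) →
        R.nw w ∈ L → R.n i ∈ L := by
      intro i w r hr he hw
      have hneg' : ∀ t, R.x (S.neg (S.simple i)) t ∈ L := by
        intro t
        obtain ⟨e, he', h⟩ := R.nw_conj w r
        have h1 := mul_mem (mul_mem hw (hBL (R.x_mem_B hr (e * t)))) (inv_mem hw)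
        rwa [h, he, ← mul_assoc, he', one_mul] at h1
      have h2 : ∀ t, R.x (S.simple i) t ∈ L := fun t => hBL (R.x_mem_B (S.simple_pos i) t)
      exact mul_mem (mul_mem (h2 _) (hneg' _)) (h2 _)
    have hfirst : ∃ i, R.n i ∈ L := by
      obtain ⟨g, hg, hgB⟩ := SetLike.not_le_iff_exists.1 hKB
      obtain ⟨b, hb, w, hw, b', hb', rfl⟩ := R.exists_bruhat (hgen ▸ Subgroup.mem_top g)
      cases w with
      | nil => rw [R.nw_nil, mul_one] at hgB; exact absurd (mul_mem hb hb') hgB
      | cons i u =>
        obtain ⟨hp, he⟩ := S.red_cons_root hw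
        refine ⟨i, hroot i (i :: u) _ hp he ?_⟩
        have := mul_mem (mul_mem (inv_mem (hBL hb)) (hKL hg)) (inv_mem (hBL hb'))
        simpa [mul_assoc] using this
    have hstep : ∀ p q, S.Link p q → R.n p ∈ L → R.n q ∈ L := by
      intro p q ⟨hr, hq⟩ hp
      obtain ⟨k, hk, b, hb, hkb⟩ : ∃ k ∈ K, ∃ b ∈ R.B, k * b = R.n p := by
        rw [hL, ← SetLike.mem_coe, Subgroup.normal_mul, Set.mem_mul] at hp
        obtain ⟨k, hk, b, hb, e⟩ := hp
        exact ⟨k, hk, b, hb, e⟩
      obtain ⟨u, hu, h, hh, e⟩ := R.mem_B_iff.1 (inv_mem hb)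
      obtain rfl : b = (u * h)⁻¹ := by rw [e, inv_inv]
      obtain ⟨t, u', hu', rfl⟩ := R.U_decomp' q hu
      have hk' : k = R.n p * (R.x (S.simple q) t * u' * h) := by
        rw [← hkb]; group
      set r := S.refl q (S.refl p (S.simple q)) with hrdef
      obtain ⟨e, -, hconj⟩ := R.nw_conj [q, p] (S.simple q)
      have hk2 := hKL (hK.conj_mem _ hk (R.n q))
      rw [hk'] at hk2
      set n' := R.n q * R.n p * (R.n q)⁻¹ with hn'
      have hb2 : (R.n q * u' * (R.n q)⁻¹) * (R.n q * h * (R.n q)⁻¹) ∈ L :=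
        hBL (mul_mem (R.U_le_B (R.Ui_le_U q (R.n_conj_Ui q hu'))) (R.H_le_B (R.n_conj_mem_H q hh)))
      have hxm : R.x r (e * t) ∈ L := hBL (R.x_mem_B hr _)
      have e1 : R.n q * (R.n p * (R.x (S.simple q) t * u' * h)) * (R.n q)⁻¹ =
          (R.nw [q, p] * R.x (S.simple q) t * (R.nw [q, p])⁻¹) * n' *
            ((R.n q * u' * (R.n q)⁻¹) * (R.n q * h * (R.n q)⁻¹)) := by
        simp only [hn', R.nw_cons, R.nw_nil]; group
      rw [e1, hconj] at hk2
      have hn'L : n' ∈ L := (L.mul_mem_cancel_left hxm).1 ((L.mul_mem_cancel_right hb2).1 hk2)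
      have hw : R.nw [q, p, q] ∈ L := by
        have := mul_mem hn'L (hBL (R.H_le_B (R.n_sq_mem_H q)))
        simpa [hn', mul_assoc] using this
      refine hroot q [q, p, q] _ hq ?_ hw
      rw [← List.reverse_reverse [q, p, q]]
      exact S.actw_reverse' [q, p, q] (S.neg (S.simple q))
    have hall : ∀ j, R.n j ∈ L := by
      obtain ⟨i, hi⟩ := hfirst
      intro j
      induction hlink i j with
      | refl => exact hi
      | tail _ hbc ih => exact hstep _ _ hbc ih
    have hLtop : L = ⊤ := by
      rw [eq_top_iff, ← hgen]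
      exact sup_le hBL ((Subgroup.closure_le _).2 fun _ ⟨i, e⟩ => e ▸ hall i)
    -- the quotient is a perfect image of `U`, hence trivial
    set φ := QuotientGroup.mk' K with hφ
    have hφB : R.B.map φ = ⊤ := by
      rw [eq_top_iff, ← MonoidHom.range_eq_top.2 (QuotientGroup.mk'_surjective K)]
      rintro _ ⟨g, rfl⟩
      have hg : g ∈ L := hLtop ▸ Subgroup.mem_top g
      rw [hL, ← SetLike.mem_coe, Subgroup.normal_mul, Set.mem_mul] at hg
      obtain ⟨k, hk, b, hb, rfl⟩ := hg
      exact ⟨b, hb, by simp [hφ, (QuotientGroup.eq_one_iff k).2 hk]⟩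
    have hφU : R.U.map φ = ⊤ := by
      have hnorm : (R.U.map φ).Normal := by
        constructor
        intro a ha g
        obtain ⟨b, hb, rfl⟩ : g ∈ R.B.map φ := hφB ▸ Subgroup.mem_top g
        obtain ⟨u, hu, rfl⟩ := ha
        refine ⟨b * u * b⁻¹, ?_, by simp⟩
        obtain ⟨v, hv, h, hh, rfl⟩ := R.mem_B_iff.1 hb
        have := ((Subgroup.mem_normalizer_iff.1 (R.H_le_normalizer_U hh)) u).1 hu
        have := mul_mem (mul_mem hv this) (inv_mem hv)
        simpa [mul_assoc] using this
      have hx : ∀ r t, φ (R.x r t) ∈ R.U.map φ := by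
        intro r t
        rcases S.pos_or_neg r with hr | hr
        · exact ⟨_, R.x_mem_U hr t, rfl⟩
        · obtain ⟨e, he, h⟩ := R.nw_conj w0 (S.actw w0.reverse r)
          rw [S.actw_reverse] at h
          have hp : S.pos (S.actw w0.reverse r) := by
            have := hneg _ hr
            rwa [S.actw_neg, S.neg_neg] at this
          have h1 := hnorm.conj_mem _ ⟨_, R.x_mem_U hp (e * t), rfl⟩ (φ (R.nw w0))
          rw [← map_inv, ← map_mul, ← map_mul, h, ← mul_assoc, he, one_mul] at h1
          exact h1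
      rw [eq_top_iff, ← hφB]
      rintro _ ⟨b, hb, rfl⟩
      obtain ⟨u, hu, h, hh, rfl⟩ := R.mem_B_iff.1 hb
      rw [map_mul]
      refine mul_mem ⟨u, hu, rfl⟩ ?_
      clear hb
      induction hh using Subgroup.closure_induction with
      | mem g hg =>
        obtain ⟨r, c, _, rfl⟩ := hg
        simp only [RootRel.hr, hOf, nOf, map_mul]
        repeat' apply mul_mem
        all_goals apply hx
      | one => simp
      | mul a b _ _ ha hb => rw [map_mul]; exact mul_mem ha hb
      | inv a _ ha => rw [map_inv]; exact inv_mem ha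
    have hsol : Group.IsSolvable (G ⧸ K) := by
      have := M.isSolvable_U
      refine Group.isSolvable_of_surjective (f := φ.comp R.U.subtype) ?_
      rw [← MonoidHom.range_eq_top, MonoidHom.range_comp, Subgroup.range_subtype, hφU]
    by_contra hne
    haveI : Nontrivial (G ⧸ K) := QuotientGroup.nontrivial_iff.2 hne
    have hperfQ : commutator (G ⧸ K) = ⊤ := by
      rw [eq_top_iff, ← MonoidHom.range_eq_top.2 (QuotientGroup.mk'_surjective K), MonoidHom.range_eq_map,
        ← hXtop, commutator_def, Subgroup.map_commutator]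
      exact Subgroup.commutator_mono le_top le_top
    exact not_isSolvable_of_mem_derivedSeries_ne_one_helper hperfQ hsol
where
  not_isSolvable_of_mem_derivedSeries_ne_one_helper {Q : Type _} [Group Q] [Nontrivial Q]
      (h : commutator Q = ⊤) (hs : Group.IsSolvable Q) : False := by
    haveI := hs
    have hlt := Group.IsSolvable.commutator_lt_top_of_nontrivial Q
    rw [h] at hlt
    exact lt_irrefl _ hlt

end Shape

end Cfsg.Agent.ChevGroup
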