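import Cfsg.Agent.ChevGroup.Cells

/-!
The relations between root elements used by the Bruhat machinery, stated over an arbitrary group, and their
immediate consequences: the subgroups `H`, `U`, `B`, the rank one property and the covering `B n ⊆ X n B`.
-/

set_option autoImplicit false

namespace Cfsg.Agent.ChevGroup

variable {G : Type*} [Group G] {F : Type*} [Field F]

/-- `x_r(c) x_{-r}(-c⁻¹) x_r(c)`. -/
def nOf {Φ : Type*} (neg : Φ → Φ) (x : Φ → F → G) (r : Φ) (c : F) : G :=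
  x r c * x (neg r) (-c⁻¹) * x r c

/-- `n_r(c) n_r(-1)`. -/
def hOf {Φ : Type*} (neg : Φ → Φ) (x : Φ → F → G) (r : Φ) (c : F) : G :=
  nOf neg x r c * nOf neg x r (-1)

/-- The subgroup generated by the positive root groups other than that of `p`. -/
def uOther {Φ : Type*} (pos : Φ → Prop) (x : Φ → F → G) (p : Φ) : Subgroup G :=
  Subgroup.closure {g | ∃ r t, pos r ∧ r ≠ p ∧ g = x r t}

/-- Combinatorics of a root system with a chosen set `I` of fundamental roots. -/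
structure RootIdx (Φ I : Type*) where
  simple : I → Φ
  neg : Φ → Φ
  refl : I → Φ → Φ
  pos : Φ → Prop
  neg_neg : ∀ r, neg (neg r) = r
  simple_pos : ∀ i, pos (simple i)
  pos_or_neg : ∀ r, pos r ∨ pos (neg r)
  not_pos_neg : ∀ r, pos r → ¬ pos (neg r)
  refl_refl : ∀ i r, refl i (refl i r) = r
  refl_neg : ∀ i r, refl i (neg r) = neg (refl i r)
  refl_simple : ∀ i, refl i (simple i) = neg (simple i)
  refl_pos : ∀ i r, pos r → r ≠ simple i → pos (refl i r)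

/-- Root elements in a group satisfying the relations needed below. -/
structure RootRel (G : Type*) [Group G] (F : Type*) [Field F] {Φ I : Type*} (S : RootIdx Φ I) where
  x : Φ → F → G
  x_add : ∀ r a b, x r (a + b) = x r a * x r b
  sgn : I → Φ → F
  sgn_sq : ∀ i r, sgn i r * sgn i r = 1
  sgn_neg : ∀ i r, sgn i (S.neg r) = sgn i r
  n_conj : ∀ i r t,
    nOf S.neg x (S.simple i) 1 * x r t * (nOf S.neg x (S.simple i) 1)⁻¹ = x (S.refl i r) (sgn i r * t)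
  h_conj : ∀ r c s, c ≠ 0 → ∃ a : F, a ≠ 0 ∧
    ∀ t, hOf S.neg x r c * x s t * (hOf S.neg x r c)⁻¹ = x s (a * t)
  comm_mem : ∀ i s t u, S.pos s → s ≠ S.simple i →
    x (S.simple i) t * x s u * x (S.simple i) (-t) ∈ uOther S.pos x (S.simple i)

namespace RootRel

variable {Φ I : Type*} {S : RootIdx Φ I} (R : RootRel G F S)

/-- `n_r(c)`. -/
def nr (r : Φ) (c : F) : G := nOf S.neg R.x r c

/-- `h_r(c)`. -/
def hr (r : Φ) (c : F) : G := hOf S.neg R.x r c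

/-- The element attached to a fundamental reflection. -/
def n (i : I) : G := R.nr (S.simple i) 1

/-- The product of the `n i` along a word. -/
def nw (w : List I) : G := (w.map R.n).prod

/-- The root group of `r`. -/
def X (r : Φ) : Subgroup G := Subgroup.closure (Set.range (R.x r))

/-- The subgroup generated by the positive root groups. -/
def U : Subgroup G := Subgroup.closure {g | ∃ r t, S.pos r ∧ g = R.x r t}

/-- The subgroup generated by the positive root groups other than that of the `i`-th fundamental root. -/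
def Ui (i : I) : Subgroup G := uOther S.pos R.x (S.simple i)

/-- The subgroup generated by all `h_r(c)`. -/
def H : Subgroup G := Subgroup.closure {g | ∃ r c, c ≠ 0 ∧ g = R.hr r c}

/-- `U H`. -/
def B : Subgroup G := R.U ⊔ R.H

lemma x_zero (r : Φ) : R.x r 0 = 1 := by
  have := R.x_add r 0 0
  rw [add_zero] at this
  exact left_eq_mul.1 this

lemma x_neg (r : Φ) (t : F) : R.x r (-t) = (R.x r t)⁻¹ := by
  apply eq_inv_of_mul_eq_one_left
  rw [← R.x_add, neg_add_cancel, R.x_zero]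

lemma nr_inv (r : Φ) (c : F) : (R.nr r c)⁻¹ = R.nr r (-c) := by
  simp only [nr, nOf, mul_inv_rev, ← R.x_neg, inv_neg, neg_neg, mul_assoc]

lemma nr_eq (r : Φ) (c : F) : R.nr r c = R.hr r c * R.nr r 1 := by
  have h : R.nr r (-1) = (R.nr r 1)⁻¹ := (R.nr_inv r 1).symm
  show R.nr r c = R.nr r c * R.nr r (-1) * R.nr r 1
  rw [h]; group

lemma hr_mem_H {r : Φ} {c : F} (hc : c ≠ 0) : R.hr r c ∈ R.H :=
  Subgroup.subset_closure ⟨r, c, hc, rfl⟩

lemma x_mem_X (r : Φ) (t : F) : R.x r t ∈ R.X r := Subgroup.subset_closure ⟨t, rfl⟩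

lemma x_mem_U {r : Φ} (hr : S.pos r) (t : F) : R.x r t ∈ R.U :=
  Subgroup.subset_closure ⟨r, t, hr, rfl⟩

lemma x_mem_B {r : Φ} (hr : S.pos r) (t : F) : R.x r t ∈ R.B := le_sup_left (b := R.H) (R.x_mem_U hr t)

lemma H_le_B : R.H ≤ R.B := le_sup_right

lemma U_le_B : R.U ≤ R.B := le_sup_left

lemma Ui_le_U (i : I) : R.Ui i ≤ R.U :=
  Subgroup.closure_mono fun _ ⟨r, t, hr, _, h⟩ => ⟨r, t, hr, h⟩

lemma n_conj' (i : I) (r : Φ) (t : F) :
    R.n i * R.x r t * (R.n i)⁻¹ = R.x (S.refl i r) (R.sgn i r * t) := R.n_conj i r t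

lemma sgn_ne_zero (i : I) (r : Φ) : R.sgn i r ≠ 0 := fun h => by
  simpa [h] using R.sgn_sq i r

lemma n_conj_nr (i : I) (r : Φ) (c : F) :
    R.n i * R.nr r c * (R.n i)⁻¹ = R.nr (S.refl i r) (R.sgn i r * c) := by
  have hs : (R.sgn i r)⁻¹ = R.sgn i r := inv_eq_of_mul_eq_one_left (R.sgn_sq i r)
  show MulAut.conj (R.n i) (R.nr r c) = _
  simp only [nr, nOf, map_mul, MulAut.conj_apply]
  rw [R.n_conj', R.n_conj', R.sgn_neg, S.refl_neg, mul_inv_rev, hs]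
  congr 3
  ring

lemma n_conj_hr (i : I) (r : Φ) (c : F) :
    R.n i * R.hr r c * (R.n i)⁻¹ =
      R.hr (S.refl i r) (R.sgn i r * c) * (R.hr (S.refl i r) (R.sgn i r))⁻¹ := by
  have e : R.n i * R.hr r c * (R.n i)⁻¹ =
      (R.n i * R.nr r c * (R.n i)⁻¹) * (R.n i * R.nr r (-1) * (R.n i)⁻¹) := by
    show R.n i * (R.nr r c * R.nr r (-1)) * (R.n i)⁻¹ = _
    group
  rw [e, R.n_conj_nr, R.n_conj_nr, mul_neg_one, ← R.nr_inv]
  show _ = R.nr (S.refl i r) (R.sgn i r * c) * R.nr (S.refl i r) (-1) *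
    (R.nr (S.refl i r) (R.sgn i r) * R.nr (S.refl i r) (-1))⁻¹
  group

lemma n_sq_mem_H (i : I) : R.n i * R.n i ∈ R.H := by
  have h := R.hr_mem_H (r := S.simple i) (c := -1) (neg_ne_zero.2 one_ne_zero)
  have e : R.hr (S.simple i) (-1) = (R.n i * R.n i)⁻¹ := by
    show R.nr _ (-1) * R.nr _ (-1) = _
    rw [← R.nr_inv]; simp [n]
  rw [e] at h
  simpa using inv_mem h

lemma n_conj_mem_H (i : I) {h : G} (hh : h ∈ R.H) : R.n i * h * (R.n i)⁻¹ ∈ R.H := by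
  induction hh using Subgroup.closure_induction with
  | mem g hg =>
    obtain ⟨r, c, hc, rfl⟩ := hg
    rw [R.n_conj_hr]
    exact mul_mem (R.hr_mem_H (mul_ne_zero (R.sgn_ne_zero i r) hc))
      (inv_mem (R.hr_mem_H (R.sgn_ne_zero i r)))
  | one => simp
  | mul a b _ _ ha hb => simpa [mul_assoc] using mul_mem ha hb
  | inv a _ ha => simpa [mul_assoc] using inv_mem ha

lemma n_inv_conj_mem_H (i : I) {h : G} (hh : h ∈ R.H) : (R.n i)⁻¹ * h * R.n i ∈ R.H := by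
  have e : (R.n i)⁻¹ * h * R.n i =
      (R.n i * R.n i)⁻¹ * (R.n i * h * (R.n i)⁻¹) * (R.n i * R.n i) := by group
  rw [e]
  exact mul_mem (mul_mem (inv_mem (R.n_sq_mem_H i)) (R.n_conj_mem_H i hh)) (R.n_sq_mem_H i)

lemma H_scales {h : G} (hh : h ∈ R.H) (s : Φ) :
    ∃ a : F, a ≠ 0 ∧ ∀ t, h * R.x s t * h⁻¹ = R.x s (a * t) := by
  induction hh using Subgroup.closure_induction with
  | mem g hg => obtain ⟨r, c, hc, rfl⟩ := hg; exact R.h_conj r c s hc
  | one => exact ⟨1, one_ne_zero, fun t => by simp⟩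
  | mul g g' _ _ h h' =>
    obtain ⟨a, ha, h⟩ := h
    obtain ⟨b, hb, h'⟩ := h'
    refine ⟨a * b, mul_ne_zero ha hb, fun t => ?_⟩
    rw [mul_assoc a b t, ← h, ← h']; group
  | inv g _ h =>
    obtain ⟨a, ha, h⟩ := h
    refine ⟨a⁻¹, inv_ne_zero ha, fun t => ?_⟩
    have := h (a⁻¹ * t)
    rw [← mul_assoc, mul_inv_cancel₀ ha, one_mul] at this
    rw [← this]; group

lemma conj_mem_uOther_of_scales {g : G} (pred : Φ → Prop)
    (hg : ∀ s, pred s → ∃ a : F, ∀ t, g * R.x s t * g⁻¹ = R.x s (a * t))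
    {u : G} (hu : u ∈ Subgroup.closure {y | ∃ r t, pred r ∧ y = R.x r t}) :
    g * u * g⁻¹ ∈ Subgroup.closure {y | ∃ r t, pred r ∧ y = R.x r t} := by
  induction hu using Subgroup.closure_induction with
  | mem y hy =>
    obtain ⟨r, t, hr, rfl⟩ := hy
    obtain ⟨a, ha⟩ := hg r hr
    exact Subgroup.subset_closure ⟨r, a * t, hr, ha t⟩
  | one => simp
  | mul a b _ _ ha hb => simpa [mul_assoc] using mul_mem ha hb
  | inv a _ ha => simpa [mul_assoc] using inv_mem ha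

lemma H_le_normalizer_U : R.H ≤ Subgroup.normalizer (R.U : Set G) := by
  intro h hh
  rw [Subgroup.mem_normalizer_iff]
  have hsc : ∀ g ∈ R.H, ∀ u ∈ R.U, g * u * g⁻¹ ∈ R.U := fun g hg u hu =>
    R.conj_mem_uOther_of_scales S.pos (fun s _ => let ⟨a, _, h⟩ := R.H_scales hg s; ⟨a, h⟩) hu
  intro u
  refine ⟨hsc h hh u, fun hu => ?_⟩
  have := hsc _ (inv_mem hh) _ hu
  simpa [mul_assoc] using this

lemma H_conj_Ui (i : I) {h u : G} (hh : h ∈ R.H) (hu : u ∈ R.Ui i) : h * u * h⁻¹ ∈ R.Ui i := by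
  induction hu using Subgroup.closure_induction with
  | mem y hy =>
    obtain ⟨r, t, hr, hne, rfl⟩ := hy
    obtain ⟨a, -, ha⟩ := R.H_scales hh r
    exact Subgroup.subset_closure ⟨r, a * t, hr, hne, ha t⟩
  | one => simp
  | mul a b _ _ ha hb => simpa [mul_assoc] using mul_mem ha hb
  | inv a _ ha => simpa [mul_assoc] using inv_mem ha

lemma x_conj_Ui (i : I) (t : F) {u : G} (hu : u ∈ R.Ui i) :
    R.x (S.simple i) t * u * (R.x (S.simple i) t)⁻¹ ∈ R.Ui i := by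
  induction hu using Subgroup.closure_induction with
  | mem y hy =>
    obtain ⟨r, s, hr, hne, rfl⟩ := hy
    rw [← R.x_neg]
    exact R.comm_mem i r t s hr hne
  | one => simp
  | mul a b _ _ ha hb => simpa [mul_assoc] using mul_mem ha hb
  | inv a _ ha => simpa [mul_assoc] using inv_mem ha

lemma n_conj_Ui (i : I) {u : G} (hu : u ∈ R.Ui i) : R.n i * u * (R.n i)⁻¹ ∈ R.Ui i := by
  induction hu using Subgroup.closure_induction with
  | mem y hy =>
    obtain ⟨r, t, hr, hne, rfl⟩ := hy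
    rw [R.n_conj']
    refine Subgroup.subset_closure ⟨_, _, S.refl_pos i r hr hne, fun h => ?_, rfl⟩
    have h2 := congrArg (S.refl i) h
    rw [S.refl_refl, S.refl_simple] at h2
    exact S.not_pos_neg _ (S.simple_pos i) (h2 ▸ hr)
  | one => simp
  | mul a b _ _ ha hb => simpa [mul_assoc] using mul_mem ha hb
  | inv a _ ha => simpa [mul_assoc] using inv_mem ha

lemma U_decomp (i : I) {u : G} (hu : u ∈ R.U) :
    ∃ u' ∈ R.Ui i, ∃ t, u = u' * R.x (S.simple i) t := by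
  induction hu using Subgroup.closure_induction'' with
  | mem y hy =>
    obtain ⟨r, t, hr, rfl⟩ := hy
    by_cases h : r = S.simple i
    · exact ⟨1, one_mem _, t, by rw [h, one_mul]⟩
    · exact ⟨R.x r t, Subgroup.subset_closure ⟨r, t, hr, h, rfl⟩, 0, by rw [R.x_zero, mul_one]⟩
  | inv_mem y hy =>
    obtain ⟨r, t, hr, rfl⟩ := hy
    rw [← R.x_neg]
    by_cases h : r = S.simple i
    · exact ⟨1, one_mem _, -t, by rw [h, one_mul]⟩
    · exact ⟨R.x r (-t), Subgroup.subset_closure ⟨r, _, hr, h, rfl⟩, 0, by rw [R.x_zero, mul_one]⟩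
  | one => exact ⟨1, one_mem _, 0, by rw [R.x_zero, mul_one]⟩
  | mul a b _ _ ha hb =>
    obtain ⟨a', ha', s, rfl⟩ := ha
    obtain ⟨b', hb', t, rfl⟩ := hb
    refine ⟨a' * (R.x (S.simple i) s * b' * (R.x (S.simple i) s)⁻¹),
      mul_mem ha' (R.x_conj_Ui i s hb'), s + t, ?_⟩
    rw [R.x_add]; group

lemma U_decomp' (i : I) {u : G} (hu : u ∈ R.U) :
    ∃ t, ∃ u' ∈ R.Ui i, u = R.x (S.simple i) t * u' := by
  obtain ⟨u', hu', t, he⟩ := R.U_decomp i (inv_mem hu)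
  refine ⟨-t, u'⁻¹, inv_mem hu', ?_⟩
  rw [← inv_inv u, he, mul_inv_rev, R.x_neg]

lemma mem_B_iff {b : G} : b ∈ R.B ↔ ∃ u ∈ R.U, ∃ h ∈ R.H, u * h = b := by
  rw [B, ← SetLike.mem_coe, Subgroup.coe_mul_of_right_le_normalizer_left _ _ R.H_le_normalizer_U,
    Set.mem_mul]
  rfl

/-- `b = u' h x_i(t)`. -/
lemma B_decomp (i : I) {b : G} (hb : b ∈ R.B) :
    ∃ u ∈ R.Ui i, ∃ h ∈ R.H, ∃ t, b = u * h * R.x (S.simple i) t := by
  obtain ⟨u, hu, h, hh, rfl⟩ := R.mem_B_iff.1 hb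
  obtain ⟨u', hu', t, rfl⟩ := R.U_decomp i hu
  obtain ⟨a, ha, e⟩ := R.H_scales hh (S.simple i)
  refine ⟨u', hu', h, hh, a⁻¹ * t, ?_⟩
  have := e (a⁻¹ * t)
  rw [← mul_assoc, mul_inv_cancel₀ ha, one_mul] at this
  rw [← this]; group

lemma n_inv_conj_Ui (i : I) {u : G} (hu : u ∈ R.Ui i) : (R.n i)⁻¹ * u * R.n i ∈ R.Ui i := by
  have e : (R.n i)⁻¹ * u * R.n i =
      (R.n i * R.n i)⁻¹ * (R.n i * u * (R.n i)⁻¹) * ((R.n i * R.n i)⁻¹)⁻¹ := by group
  rw [e]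
  exact R.H_conj_Ui i (inv_mem (R.n_sq_mem_H i)) (R.n_conj_Ui i hu)

/-- `B n ⊆ X n B`. -/
lemma B_mul_n (i : I) {b : G} (hb : b ∈ R.B) :
    ∃ t, ∃ b' ∈ R.B, b * R.n i = R.x (S.simple i) t * R.n i * b' := by
  obtain ⟨u, hu, h, hh, rfl⟩ := R.mem_B_iff.1 hb
  obtain ⟨t, u', hu', rfl⟩ := R.U_decomp' i hu
  refine ⟨t, ((R.n i)⁻¹ * u' * R.n i) * ((R.n i)⁻¹ * h * R.n i),
    mul_mem (R.U_le_B (R.Ui_le_U i (R.n_inv_conj_Ui i hu')))
      (R.H_le_B (R.n_inv_conj_mem_H i hh)), ?_⟩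
  group

/-- For `t ≠ 0` the conjugate `n x(t) n⁻¹` lies in `B n B`. -/
lemma n_conj_x_mem_BnB (i : I) {t : F} (ht : t ≠ 0) :
    ∃ b₁ ∈ R.B, ∃ b₂ ∈ R.B, R.n i * R.x (S.simple i) t * (R.n i)⁻¹ = b₁ * R.n i * b₂ := by
  set p := S.simple i with hp
  rw [R.n_conj', S.refl_simple]
  set s := R.sgn i p * t with hs
  have hs0 : s ≠ 0 := mul_ne_zero (R.sgn_ne_zero i p) ht
  have e : R.x (S.neg p) s = R.x p s⁻¹ * R.nr p (-s⁻¹) * R.x p s⁻¹ := by
    simp only [nr, nOf, R.x_neg, inv_neg, neg_neg, inv_inv]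
    group
  refine ⟨R.x p s⁻¹ * R.hr p (-s⁻¹),
    mul_mem (R.x_mem_B (S.simple_pos i) _) (R.H_le_B (R.hr_mem_H (neg_ne_zero.2 (inv_ne_zero hs0)))),
    R.x p s⁻¹, R.x_mem_B (S.simple_pos i) _, ?_⟩
  rw [e, R.nr_eq p (-s⁻¹)]
  simp only [n, ← hp, mul_assoc]

lemma rankOne (i : I) : RankOne R.B (R.n i) := by
  intro b hb
  obtain ⟨u, hu, h, hh, t, rfl⟩ := R.B_decomp i hb
  have e : R.n i * (u * h * R.x (S.simple i) t) * R.n i =
      (R.n i * u * (R.n i)⁻¹) * (R.n i * h * (R.n i)⁻¹) *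
        (R.n i * R.x (S.simple i) t * (R.n i)⁻¹) * (R.n i * R.n i) := by group
  have h1 : (R.n i * u * (R.n i)⁻¹) * (R.n i * h * (R.n i)⁻¹) ∈ R.B :=
    mul_mem (R.U_le_B (R.Ui_le_U i (R.n_conj_Ui i hu))) (R.H_le_B (R.n_conj_mem_H i hh))
  have h2 := R.H_le_B (R.n_sq_mem_H i)
  by_cases ht : t = 0
  · left
    rw [e, ht, R.x_zero]
    simpa using mul_mem h1 h2
  · right
    obtain ⟨b₁, hb₁, b₂, hb₂, e'⟩ := R.n_conj_x_mem_BnB i ht
    refine ⟨_, mul_mem h1 hb₁, _, mul_mem hb₂ h2, ?_⟩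
    rw [e, e']
    simp only [mul_assoc]

/-- Different parameters differ by an element of `B n B`. -/
lemma x_n_sep (i : I) {s t : F} (hst : s ≠ t) :
    ∃ b₁ ∈ R.B, ∃ b₂ ∈ R.B,
      (R.x (S.simple i) s * R.n i)⁻¹ * (R.x (S.simple i) t * R.n i) = b₁ * R.n i * b₂ := by
  obtain ⟨b₁, hb₁, b₂, hb₂, e⟩ := R.n_conj_x_mem_BnB i (sub_ne_zero.2 (Ne.symm hst))
  have hsq := R.n_sq_mem_H i
  refine ⟨(R.n i * R.n i)⁻¹ * b₁, mul_mem (R.H_le_B (inv_mem hsq)) hb₁,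
    b₂ * (R.n i * R.n i), mul_mem hb₂ (R.H_le_B hsq), ?_⟩
  rw [sub_eq_neg_add, R.x_add, R.x_neg] at e
  have e' : (R.x (S.simple i) s * R.n i)⁻¹ * (R.x (S.simple i) t * R.n i) =
      (R.n i * R.n i)⁻¹ * (R.n i * ((R.x (S.simple i) s)⁻¹ * R.x (S.simple i) t) * (R.n i)⁻¹) *
        (R.n i * R.n i) := by group
  rw [e', e]
  simp only [mul_assoc]

end RootRel

end Cfsg.Agent.ChevGroup
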