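import Mathlib

/-!
Counting cosets by cells: a subgroup `Q` generated by `B` and elements `n i` (for the letters `i` in use),
a subgroup `P` containing `B`, and representatives `rep ω`; the cell of `ω` is the image of `B * rep ω`
in `G ⧸ P`.
-/

set_option autoImplicit false

open scoped Pointwise

namespace Cfsg.Agent.ChevGroup

variable {G : Type*} [Group G]

/-- The image in `G ⧸ P` of `B * g`. -/
def cell (B P : Subgroup G) (g : G) : Set (G ⧸ P) :=
  MulAction.orbit B (g : G ⧸ P)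

lemma mem_cell {B P : Subgroup G} {g : G} {c : G ⧸ P} :
    c ∈ cell B P g ↔ ∃ b ∈ B, (((b * g : G)) : G ⧸ P) = c := by
  simp only [cell, MulAction.mem_orbit_iff]
  constructor
  · rintro ⟨⟨b, hb⟩, rfl⟩; exact ⟨b, hb, rfl⟩
  · rintro ⟨b, hb, rfl⟩; exact ⟨⟨b, hb⟩, rfl⟩

lemma smul_mem_cell {B P : Subgroup G} {g b : G} {c : G ⧸ P} (hb : b ∈ B) (hc : c ∈ cell B P g) :
    b • c ∈ cell B P g := by
  rw [mem_cell] at hc ⊢
  obtain ⟨b', hb', rfl⟩ := hc
  exact ⟨b * b', mul_mem hb hb', by rw [mul_assoc]; rfl⟩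

lemma self_mem_cell (B P : Subgroup G) (g : G) : (g : G ⧸ P) ∈ cell B P g :=
  mem_cell.2 ⟨1, one_mem _, by rw [one_mul]⟩

lemma cell_eq_of_mem {B P : Subgroup G} {g g' : G} (h : (g' : G ⧸ P) ∈ cell B P g) :
    cell B P g' = cell B P g :=
  MulAction.orbit_eq_iff.2 h

lemma cell_one {B P : Subgroup G} {g : G} (hBP : B ≤ P) (hg : g ∈ P) :
    cell B P g = {((1 : G) : G ⧸ P)} := by
  ext c
  rw [mem_cell, Set.mem_singleton_iff]
  constructor
  · rintro ⟨b, hb, rfl⟩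
    exact QuotientGroup.eq.2 (by simpa using inv_mem (mul_mem (hBP hb) hg))
  · rintro rfl
    exact ⟨1, one_mem _, QuotientGroup.eq.2 (by simpa using inv_mem hg)⟩

/-- `n` carries every element of the cell of `g` into the cell of `g'`. -/
def Up (B P : Subgroup G) (n g g' : G) : Prop :=
  ∀ c ∈ cell B P g, n • c ∈ cell B P g'

/-- `n b n` lies in `B ∪ B n B`. -/
def RankOne (B : Subgroup G) (n : G) : Prop :=
  ∀ b ∈ B, n * b * n ∈ B ∨ ∃ b₁ ∈ B, ∃ b₂ ∈ B, n * b * n = b₁ * n * b₂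

lemma Up.smul {B P : Subgroup G} {n g g' b₁ b₂ : G} (h : Up B P n g g') (h1 : b₁ ∈ B) (h2 : b₂ ∈ B)
    {c : G ⧸ P} (hc : c ∈ cell B P g) : (b₁ * n * b₂) • c ∈ cell B P g' := by
  rw [mul_smul, mul_smul]
  exact smul_mem_cell h1 (h _ (smul_mem_cell h2 hc))

/-- The down case follows from the up case and the rank one property. -/
lemma down_of_up {B P : Subgroup G} {n g g' : G} (h : Up B P n g g') (h1 : RankOne B n)
    {c : G ⧸ P} (hc : c ∈ cell B P g') : n • c ∈ cell B P g ∪ cell B P g' := by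
  have hg : cell B P (n * g) = cell B P g' :=
    cell_eq_of_mem (h _ (self_mem_cell B P g))
  rw [← hg, mem_cell] at hc
  obtain ⟨b, hb, rfl⟩ := hc
  have e : n • ((b * (n * g) : G) : G ⧸ P) = (n * b * n) • (g : G ⧸ P) := by
    show ((n * (b * (n * g)) : G) : G ⧸ P) = ((n * b * n * g : G) : G ⧸ P)
    simp only [mul_assoc]
  rw [e]
  rcases h1 b hb with hb' | ⟨b₁, hb₁, b₂, hb₂, he⟩
  · exact Or.inl (smul_mem_cell hb' (self_mem_cell _ _ _))
  · exact Or.inr (he ▸ h.smul hb₁ hb₂ (self_mem_cell _ _ _))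

/-- Every element of the group generated by `B` and the `n i` maps the base point into some cell, provided
every pair (letter, cell) is an up case or the image of an up case. -/
lemma smul_one_mem_iUnion {ι Ω : Type*} (B P : Subgroup G) (n : ι → G) (rep : Ω → G) (hBP : B ≤ P)
    (one : Ω) (hone : rep one ∈ P) (hsq : ∀ i, n i * n i ∈ B) (h1 : ∀ i, RankOne B (n i))
    (hedge : ∀ i ω, (∃ ω', Up B P (n i) (rep ω) (rep ω')) ∨ ∃ ω₀, Up B P (n i) (rep ω₀) (rep ω))
    {g : G} (hg : g ∈ B ⊔ Subgroup.closure (Set.range n)) :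
    (g : G ⧸ P) ∈ ⋃ ω, cell B P (rep ω) := by
  have hn : ∀ i, ∀ c ∈ ⋃ ω, cell B P (rep ω), n i • c ∈ ⋃ ω, cell B P (rep ω) := by
    intro i c hc
    obtain ⟨ω, hc⟩ := Set.mem_iUnion.1 hc
    rcases hedge i ω with ⟨ω', h⟩ | ⟨ω₀, h⟩
    · exact Set.mem_iUnion.2 ⟨ω', h _ hc⟩
    · rcases down_of_up h (h1 i) hc with h | h <;> exact Set.mem_iUnion.2 ⟨_, h⟩
  have key : ∀ x ∈ (B : Set G) ∪ Set.range n,
      ∀ c ∈ ⋃ ω, cell B P (rep ω), x • c ∈ ⋃ ω, cell B P (rep ω) := by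
    rintro x (hx | ⟨i, rfl⟩) c hc
    · obtain ⟨ω, hc⟩ := Set.mem_iUnion.1 hc
      exact Set.mem_iUnion.2 ⟨ω, smul_mem_cell hx hc⟩
    · exact hn i c hc
  have h0 : ((1 : G) : G ⧸ P) ∈ ⋃ ω, cell B P (rep ω) :=
    Set.mem_iUnion.2 ⟨one, by rw [cell_one hBP hone]; rfl⟩
  have hall : ∀ x ∈ B ⊔ Subgroup.closure (Set.range n),
      ∀ c ∈ ⋃ ω, cell B P (rep ω), x • c ∈ ⋃ ω, cell B P (rep ω) := by
    intro x hx
    rw [← Subgroup.closure_eq B, ← Subgroup.closure_union] at hx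
    induction hx using Subgroup.closure_induction'' with
    | mem x hx => exact key x hx
    | inv_mem x hx =>
      intro c hc
      rcases hx with hx | ⟨i, rfl⟩
      · exact key _ (Or.inl (inv_mem hx)) c hc
      · have e : (n i)⁻¹ = (n i * n i)⁻¹ * n i := by group
        rw [e, mul_smul]
        exact key _ (Or.inl (inv_mem (hsq i))) _ (hn i c hc)
    | one => intro c hc; rwa [one_smul]
    | mul x y _ _ ihx ihy => intro c hc; rw [mul_smul]; exact ihx _ (ihy c hc)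
  have := hall g hg _ h0
  simpa using this

/-- If `B n` is covered by `x t * n * B` and different parameters differ by an element of `B n B`, then the
cell of `g'` is in bijection with the product of the parameters and the cell of `g`. -/
lemma cell_bijective {F : Type*} {B P : Subgroup G} {n g g' : G} (x : F → G) (hx : ∀ t, x t ∈ B)
    (hcov : ∀ b ∈ B, ∃ t, ∃ b' ∈ B, b * n = x t * n * b')
    (hinj : ∀ s t, s ≠ t → ∃ b₁ ∈ B, ∃ b₂ ∈ B, (x s * n)⁻¹ * (x t * n) = b₁ * n * b₂)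
    (hup : Up B P n g g') (hne : cell B P g ≠ cell B P g') :
    Set.BijOn (fun p : F × (G ⧸ P) => (x p.1 * n) • p.2) (Set.univ ×ˢ cell B P g) (cell B P g') := by
  refine ⟨?_, ?_, ?_⟩
  · rintro ⟨t, c⟩ ⟨-, hc⟩
    show (x t * n) • c ∈ _
    rw [← mul_one (x t * n)]
    exact hup.smul (hx t) (one_mem _) hc
  · rintro ⟨s, c⟩ ⟨-, hc⟩ ⟨t, c'⟩ ⟨-, hc'⟩ h
    simp only at h
    by_cases hst : s = t
    · subst hst
      simp only [smul_left_cancel_iff] at h
      rw [h]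
    · exfalso
      obtain ⟨b₁, hb₁, b₂, hb₂, he⟩ := hinj s t hst
      have : c = (b₁ * n * b₂) • c' := by
        rw [← he, mul_smul, ← h, inv_smul_smul]
      have h1 : c ∈ cell B P g' := this ▸ hup.smul hb₁ hb₂ hc'
      exact hne ((MulAction.orbit_eq_iff.2 hc).symm.trans (MulAction.orbit_eq_iff.2 h1))
  · intro c hc
    rw [← cell_eq_of_mem (hup _ (self_mem_cell B P g))] at hc
    rw [mem_cell] at hc
    obtain ⟨b, hb, rfl⟩ := hc
    obtain ⟨t, b', hb', he⟩ := hcov b hb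
    refine ⟨(t, ((b' * g : G) : G ⧸ P)), ⟨trivial, mem_cell.2 ⟨b', hb', rfl⟩⟩, ?_⟩
    show ((x t * n * (b' * g) : G) : G ⧸ P) = _
    have e : x t * n * (b' * g) = b * (n * g) := by rw [← mul_assoc, ← he, mul_assoc]
    exact congrArg _ e

lemma card_cell_up {F : Type*} {B P : Subgroup G} {n g g' : G} (x : F → G) (hx : ∀ t, x t ∈ B)
    (hcov : ∀ b ∈ B, ∃ t, ∃ b' ∈ B, b * n = x t * n * b')
    (hinj : ∀ s t, s ≠ t → ∃ b₁ ∈ B, ∃ b₂ ∈ B, (x s * n)⁻¹ * (x t * n) = b₁ * n * b₂)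
    (hup : Up B P n g g') (hne : cell B P g ≠ cell B P g') :
    Nat.card (cell B P g') = Nat.card F * Nat.card (cell B P g) := by
  rw [← Nat.card_congr ((cell_bijective x hx hcov hinj hup hne).equiv _), ← Nat.card_univ (α := F),
    ← Nat.card_prod]
  exact Nat.card_congr (Equiv.Set.prod _ _)

/-- The index of `P` in a subgroup whose translates of the base point are the union of disjoint cells. -/
lemma relIndex_eq_sum {Ω : Type*} [Fintype Ω] (B P Q : Subgroup G) (rep : Ω → G) (hBQ : B ≤ Q)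
    (hrep : ∀ ω, rep ω ∈ Q) (hcov : ∀ g ∈ Q, (g : G ⧸ P) ∈ ⋃ ω, cell B P (rep ω))
    (hdisj : ∀ ω ω', cell B P (rep ω) = cell B P (rep ω') → ω = ω')
    (hfin : ∀ ω, (cell B P (rep ω)).Finite) :
    P.relIndex Q = ∑ ω, Nat.card (cell B P (rep ω)) := by
  have horb : MulAction.orbit Q ((1 : G) : G ⧸ P) = ⋃ ω, cell B P (rep ω) := by
    apply Set.Subset.antisymm
    · rintro _ ⟨⟨g, hg⟩, rfl⟩
      show ((g * 1 : G) : G ⧸ P) ∈ _
      rw [mul_one]
      exact hcov g hg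
    · intro c hc
      obtain ⟨ω, hc⟩ := Set.mem_iUnion.1 hc
      obtain ⟨b, hb, rfl⟩ := mem_cell.1 hc
      exact ⟨⟨b * rep ω, mul_mem (hBQ hb) (hrep ω)⟩, congrArg _ (mul_one _)⟩
  have hstab : MulAction.stabilizer Q ((1 : G) : G ⧸ P) = P.subgroupOf Q := by
    ext ⟨g, hg⟩
    rw [MulAction.mem_stabilizer_iff, Subgroup.mem_subgroupOf]
    show ((g * 1 : G) : G ⧸ P) = _ ↔ g ∈ P
    rw [mul_one, QuotientGroup.eq]
    simp
  rw [Subgroup.relIndex, ← hstab, MulAction.index_stabilizer, horb]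
  rw [Set.ncard_iUnion_of_finite hfin, finsum_eq_sum_of_fintype]
  · simp [Nat.card_coe_set_eq]
  · intro ω ω' hne
    rw [Function.onFun, Set.disjoint_left]
    intro c hc hc'
    exact hne (hdisj _ _ ((MulAction.orbit_eq_iff.2 hc).symm.trans (MulAction.orbit_eq_iff.2 hc')))

end Cfsg.Agent.ChevGroup
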