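import Cfsg.Agent.ChevGroup.Step

/-!
The exchange argument on words in the fundamental reflections: every word is congruent modulo `H` to a
reduced one, the Bruhat decomposition, and the kernel of the map to permutations of the roots.
-/

set_option autoImplicit false

namespace Cfsg.Agent.ChevGroup

variable {Φ I : Type*}

namespace RootIdx

variable (S : RootIdx Φ I)

/-- A word every step of which sends a positive root to a fundamental one. -/
def Red : List I → Prop
  | [] => True
  | i :: u => S.pos (S.actw u.reverse (S.simple i)) ∧ Red u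

lemma actw_reverse' (w : List I) (r : Φ) : S.actw w.reverse (S.actw w r) = r := by
  have := S.actw_reverse w.reverse r
  rwa [List.reverse_reverse] at this

lemma exists_cut : ∀ (u : List I) (r : Φ), S.pos r → ¬ S.pos (S.actw u.reverse r) →
    ∃ pre j post, u = pre ++ j :: post ∧ S.actw pre (S.simple j) = r := by
  intro u
  induction u with
  | nil => intro r hr h; exact absurd hr h
  | cons k u ih =>
    intro r hr h
    by_cases hk : r = S.simple k
    · exact ⟨[], k, u, rfl, hk.symm⟩
    · rw [List.reverse_cons, S.actw_append, S.actw_cons, S.actw_nil] at h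
      obtain ⟨pre, j, post, rfl, he⟩ := ih _ (S.refl_pos k r hr hk) h
      exact ⟨k :: pre, j, post, rfl, by rw [S.actw_cons, he, S.refl_refl]⟩

lemma red_cons_root {i : I} {u : List I} (h : S.Red (i :: u)) :
    S.pos (S.actw u.reverse (S.simple i)) ∧
      S.actw (i :: u) (S.actw u.reverse (S.simple i)) = S.neg (S.simple i) :=
  ⟨h.1, by rw [S.actw_cons, S.actw_reverse, S.refl_simple]⟩

end RootIdx

namespace RootRel

variable {G : Type*} [Group G] {F : Type*} [Field F] {S : RootIdx Φ I} (R : RootRel G F S)

lemma n_mul_cut (i : I) (pre : List I) (j : I) (post : List I)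
    (h : S.actw pre (S.simple j) = S.simple i) :
    ∃ h' ∈ R.H, R.n i * R.nw (pre ++ j :: post) = h' * R.nw (pre ++ post) := by
  obtain ⟨e, he, hc⟩ := R.nw_conj_nr pre (S.simple j) 1
  rw [h, mul_one] at hc
  have hne : e ≠ 0 := fun h0 => by simp [h0] at he
  refine ⟨R.n i * R.hr (S.simple i) e * R.n i, ?_, ?_⟩
  · have := mul_mem (R.n_conj_mem_H i (R.hr_mem_H (r := S.simple i) hne)) (R.n_sq_mem_H i)
    simpa [mul_assoc] using this
  · rw [R.nw_append, R.nw_append, R.nw_cons]
    have : R.n j = (R.nw pre)⁻¹ * R.nr (S.simple i) e * R.nw pre := by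
      rw [← hc]; simp only [n]; group
    rw [this, R.nr_eq _ e]
    simp only [n]
    group

/-- Every word is congruent modulo `H` to a reduced one with no greater length. -/
lemma exists_red : ∀ w : List I, ∃ v : List I, S.Red v ∧ v.length ≤ w.length ∧
    (∀ j ∈ v, j ∈ w) ∧ ∃ h ∈ R.H, R.nw w = h * R.nw v := by
  intro w
  induction hl : w.length using Nat.strong_induction_on generalizing w with
  | _ l IH =>
    subst hl
    cases w with
    | nil => exact ⟨[], trivial, le_rfl, fun _ h => h, 1, one_mem _, by simp⟩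
    | cons i u =>
      obtain ⟨v, hv, hlen, hsub, h, hh, he⟩ := IH u.length (by simp) u rfl
      have he' : R.nw (i :: u) = (R.n i * h * (R.n i)⁻¹) * (R.n i * R.nw v) := by
        rw [R.nw_cons, he]; group
      by_cases hpos : S.pos (S.actw v.reverse (S.simple i))
      · refine ⟨i :: v, ⟨hpos, hv⟩, by simp; omega, ?_, _, R.n_conj_mem_H i hh, ?_⟩
        · intro j hj
          rcases List.mem_cons.1 hj with rfl | hj
          · simp
          · exact List.mem_cons_of_mem _ (hsub j hj)
        · rw [he', R.nw_cons]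
      · obtain ⟨pre, j, post, rfl, hc⟩ := S.exists_cut v (S.simple i) (S.simple_pos i) hpos
        obtain ⟨h', hh', e'⟩ := R.n_mul_cut i pre j post hc
        have hlt : (pre ++ post).length < (i :: u).length := by
          simp only [List.length_append, List.length_cons] at hlen ⊢; omega
        obtain ⟨v', hv', hlen', hsub', h'', hh'', e''⟩ := IH _ hlt (pre ++ post) rfl
        refine ⟨v', hv', by omega, ?_, _, mul_mem (mul_mem (R.n_conj_mem_H i hh) hh') hh'', ?_⟩
        · intro j' hj'
          refine List.mem_cons_of_mem _ (hsub j' ?_)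
          have := hsub' j' hj'
          simp only [List.mem_append, List.mem_cons] at this ⊢
          tauto
        · rw [he', e', e'']; group

lemma up_of_pos {i : I} {u : List I} (hpos : S.pos (S.actw u.reverse (S.simple i))) :
    Up R.B R.B (R.n i) (R.nw u) (R.nw (i :: u)) := by
  intro z hz
  obtain ⟨b, hb, rfl⟩ := mem_cell.1 hz
  obtain ⟨u', hu', h', hh', t, rfl⟩ := R.B_decomp i hb
  obtain ⟨e, hx⟩ := R.nw_inv_conj_x u (S.simple i) t
  refine mem_cell.2 ⟨(R.n i * u' * (R.n i)⁻¹) * (R.n i * h' * (R.n i)⁻¹),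
    mul_mem (R.U_le_B (R.Ui_le_U i (R.n_conj_Ui i hu'))) (R.H_le_B (R.n_conj_mem_H i hh')), ?_⟩
  show _ = ((R.n i * (u' * h' * R.x (S.simple i) t * R.nw u) : G) : G ⧸ R.B)
  refine QuotientGroup.eq.2 ?_
  have := R.x_mem_B hpos (e * t)
  rw [← hx] at this
  simpa [mul_assoc] using this

/-- Bruhat decomposition: `g = b n_w b'` with `w` reduced. -/
lemma exists_bruhat {g : G} (hg : g ∈ R.B ⊔ Subgroup.closure (Set.range R.n)) :
    ∃ b ∈ R.B, ∃ w : List I, S.Red w ∧ ∃ b' ∈ R.B, g = b * R.nw w * b' := by
  have h := smul_one_mem_iUnion R.B R.B R.n R.nw le_rfl ([] : List I) (by simp)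
    (fun i => R.H_le_B (R.n_sq_mem_H i)) R.rankOne ?_ hg
  · obtain ⟨w, hw⟩ := Set.mem_iUnion.1 h
    obtain ⟨b, hb, he⟩ := mem_cell.1 hw
    rw [QuotientGroup.eq] at he
    obtain ⟨v, hv, -, -, h, hh, e⟩ := R.exists_red w
    refine ⟨b * h, mul_mem hb (R.H_le_B hh), v, hv, _, he, ?_⟩
    rw [e]; group
  · intro i u
    by_cases hp : S.pos (S.actw u.reverse (S.simple i))
    · exact Or.inl ⟨_, R.up_of_pos hp⟩
    · refine Or.inr ⟨i :: u, ?_⟩
      have hp' : S.pos (S.actw (i :: u).reverse (S.simple i)) := by
        rw [List.reverse_cons, S.actw_append, S.actw_cons, S.actw_nil, S.refl_simple, S.actw_neg]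
        exact (S.pos_or_neg _).resolve_left hp
      have h := R.up_of_pos hp'
      have hc : cell R.B R.B (R.nw (i :: i :: u)) = cell R.B R.B (R.nw u) := by
        refine cell_eq_of_mem ?_
        refine mem_cell.2 ⟨R.n i * R.n i, R.H_le_B (R.n_sq_mem_H i), ?_⟩
        rw [R.nw_cons, R.nw_cons, mul_assoc]
      intro c hc'
      rw [← hc]
      exact h c hc'

end RootRel

end Cfsg.Agent.ChevGroup
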