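import Cfsg.Agent.ChevGroup.Rel

/-!
One step of the parabolic chain: from a decidable certificate (the orbit of the coset space on indices
`0, …, m-1`, a word for each point, and for each edge the position used by the exchange argument) the cosets
of `P_J` in `P_K` are the union of the cells of the representatives, and their number is `∑ q ^ length`.
-/

set_option autoImplicit false

namespace Cfsg.Agent.ChevGroup

variable {Φ I : Type*}

/-- The action of a word of fundamental reflections on roots. -/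
def RootIdx.actw (S : RootIdx Φ I) (w : List I) (r : Φ) : Φ := w.foldr S.refl r

@[simp] lemma RootIdx.actw_nil (S : RootIdx Φ I) (r : Φ) : S.actw [] r = r := rfl

@[simp] lemma RootIdx.actw_cons (S : RootIdx Φ I) (i : I) (w : List I) (r : Φ) :
    S.actw (i :: w) r = S.refl i (S.actw w r) := rfl

lemma RootIdx.actw_append (S : RootIdx Φ I) (v w : List I) (r : Φ) :
    S.actw (v ++ w) r = S.actw v (S.actw w r) := by
  simp [RootIdx.actw, List.foldr_append]

lemma RootIdx.actw_reverse (S : RootIdx Φ I) (w : List I) (r : Φ) :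
    S.actw w (S.actw w.reverse r) = r := by
  induction w generalizing r with
  | nil => rfl
  | cons i w ih =>
    rw [List.reverse_cons, S.actw_append, S.actw_cons, S.actw_cons, S.actw_nil, ih, S.refl_refl]

lemma RootIdx.actw_neg (S : RootIdx Φ I) (w : List I) (r : Φ) :
    S.actw w (S.neg r) = S.neg (S.actw w r) := by
  induction w with
  | nil => rfl
  | cons i w ih => rw [S.actw_cons, S.actw_cons, ih, S.refl_neg]

/-- Certificate for one step `J ⊆ K` of the parabolic chain. -/
structure Step (I : Type*) where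
  m : ℕ
  K : List I
  J : List I
  act : I → ℕ → ℕ
  word : ℕ → List I
  cut : I → ℕ → ℕ
  jroots : List (List I × I)

namespace Step

variable (C : Step I) [DecidableEq I] (S : RootIdx Φ I)

/-- Follow a word from the base point, checking that all points stay below `d`. -/
def run (d : ℕ) : List I → ℕ × Bool
  | [] => (0, true)
  | i :: v =>
    let p := run d v
    (C.act i p.1, p.2 && (decide (i ∈ C.K) && decide (C.act i p.1 < d)))

/-- The root that decides the behaviour of the letter `i` at the point `c`. -/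
def back (i : I) (c : ℕ) : Φ := S.actw (C.word c).reverse (S.simple i)

/-- The roots of the smaller parabolic listed by the certificate. -/
def jList : List Φ := C.jroots.map fun p => S.actw p.1 (S.simple p.2)

/-- The edge `(i, c)` goes up, and is an instance of the exchange condition. -/
def IsUp (i : I) (c : ℕ) : Prop :=
  S.pos (C.back S i c) ∧ c < C.act i c ∧ C.act i c < C.m ∧
    ∃ h : C.cut i c < (C.word (C.act i c)).length,
      S.actw ((C.word (C.act i c)).take (C.cut i c)) (S.simple ((C.word (C.act i c))[C.cut i c]'h)) =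
          S.simple i ∧
        C.run (C.act i c)
            ((C.word (C.act i c)).take (C.cut i c) ++ (C.word (C.act i c)).drop (C.cut i c + 1)) = (c, true)

/-- The edge `(i, c)` is fixed, or up, or the image of an up edge. -/
def EdgeOK (i : I) (c : ℕ) : Prop :=
  (C.back S i c ∈ C.jList S ∧ C.act i c = c) ∨ C.IsUp S i c ∨
    (C.IsUp S i (C.act i c) ∧ C.act i (C.act i c) = c)

/-- The whole certificate. -/
def Valid : Prop :=
  (∀ i ∈ C.K, ∀ c < C.m, C.EdgeOK S i c) ∧
  (∀ p ∈ C.jroots, (∀ j ∈ p.1, j ∈ C.J) ∧ p.2 ∈ C.J) ∧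
  (∀ j ∈ C.J, j ∈ C.K) ∧ 0 < C.m ∧ C.word 0 = [] ∧
  ∀ d < C.m, d ≠ 0 → ∃ i ∈ C.K, (C.word d).head? = some i ∧
    C.act i (C.act i d) = d ∧ C.IsUp S i (C.act i d) ∧ C.word (C.act i d) = (C.word d).tail

end Step

namespace RootRel

variable {G : Type*} [Group G] {F : Type*} [Field F] {S : RootIdx Φ I} (R : RootRel G F S)

/-- `B` together with the `n j`, `j` in `J`. -/
def par (J : List I) : Subgroup G := R.B ⊔ Subgroup.closure (R.n '' {j | j ∈ J})

lemma B_le_par (J : List I) : R.B ≤ R.par J := le_sup_left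

lemma n_mem_par {J : List I} {j : I} (hj : j ∈ J) : R.n j ∈ R.par J :=
  (le_sup_right (a := R.B) : _ ≤ R.par J) (Subgroup.subset_closure ⟨j, hj, rfl⟩)

lemma par_mono {J K : List I} (h : ∀ j ∈ J, j ∈ K) : R.par J ≤ R.par K :=
  sup_le (R.B_le_par K) ((Subgroup.closure_le _).2 fun _ ⟨j, hj, e⟩ => e ▸ R.n_mem_par (h j hj))

lemma par_nil : R.par [] = R.B := by simp [par]

@[simp] lemma nw_nil : R.nw [] = 1 := rfl

@[simp] lemma nw_cons (i : I) (w : List I) : R.nw (i :: w) = R.n i * R.nw w := by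
  simp [nw]

lemma nw_append (v w : List I) : R.nw (v ++ w) = R.nw v * R.nw w := by
  simp [nw]

lemma nw_mem_par {J : List I} {w : List I} (h : ∀ j ∈ w, j ∈ J) : R.nw w ∈ R.par J := by
  induction w with
  | nil => exact one_mem _
  | cons i w ih =>
    rw [R.nw_cons]
    exact mul_mem (R.n_mem_par (h i (List.mem_cons_self ..)))
      (ih fun j hj => h j (List.mem_cons_of_mem _ hj))

/-- Conjugation by a word permutes root elements up to sign. -/
lemma nw_conj (w : List I) (r : Φ) :
    ∃ e : F, e * e = 1 ∧ ∀ t, R.nw w * R.x r t * (R.nw w)⁻¹ = R.x (S.actw w r) (e * t) := by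
  induction w with
  | nil => exact ⟨1, one_mul 1, fun t => by simp⟩
  | cons i w ih =>
    obtain ⟨e, he, h⟩ := ih
    refine ⟨R.sgn i (S.actw w r) * e, by rw [mul_mul_mul_comm, R.sgn_sq, he, one_mul], fun t => ?_⟩
    rw [R.nw_cons, S.actw_cons, mul_assoc _ e t, ← R.n_conj', ← h t]
    group

lemma nw_inv_conj_x (w : List I) (r : Φ) (t : F) :
    ∃ e : F, (R.nw w)⁻¹ * R.x r t * R.nw w = R.x (S.actw w.reverse r) (e * t) := by
  obtain ⟨e, he, h⟩ := R.nw_conj w (S.actw w.reverse r)
  refine ⟨e, ?_⟩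
  have := h (e * t)
  rw [← mul_assoc, he, one_mul, S.actw_reverse] at this
  rw [← this]; group

lemma nw_conj_nr (w : List I) (r : Φ) (c : F) :
    ∃ e : F, e * e = 1 ∧ R.nw w * R.nr r c * (R.nw w)⁻¹ = R.nr (S.actw w r) (e * c) := by
  induction w with
  | nil => exact ⟨1, one_mul 1, by simp⟩
  | cons i w ih =>
    obtain ⟨e, he, h⟩ := ih
    refine ⟨R.sgn i (S.actw w r) * e, by rw [mul_mul_mul_comm, R.sgn_sq, he, one_mul], ?_⟩
    rw [R.nw_cons, S.actw_cons, mul_assoc _ e c, ← R.n_conj_nr, ← h]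
    group

lemma nw_inv_conj_mem_H (w : List I) {h : G} (hh : h ∈ R.H) : (R.nw w)⁻¹ * h * R.nw w ∈ R.H := by
  induction w generalizing h with
  | nil => simpa using hh
  | cons i w ih =>
    have := ih (R.n_inv_conj_mem_H i hh)
    simpa [mul_assoc] using this

lemma H_smul {P : Subgroup G} (hP : R.B ≤ P) (w : List I) {h : G} (hh : h ∈ R.H) :
    h • (R.nw w : G ⧸ P) = (R.nw w : G ⧸ P) := by
  show ((h * R.nw w : G) : G ⧸ P) = _
  refine QuotientGroup.eq.2 ?_
  have := inv_mem (hP (R.H_le_B (R.nw_inv_conj_mem_H w hh)))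
  simpa [mul_assoc] using this

lemma x_mem_par_of_jList (C : Step I) (hC : ∀ p ∈ C.jroots, (∀ j ∈ p.1, j ∈ C.J) ∧ p.2 ∈ C.J)
    {r : Φ} (hr : r ∈ C.jList S) (t : F) :
    R.x r t ∈ R.par C.J ∧ R.x (S.neg r) t ∈ R.par C.J := by
  obtain ⟨⟨v, j⟩, hp, rfl⟩ := List.mem_map.1 hr
  obtain ⟨hv, hj⟩ := hC _ hp
  have hm : ∀ s, (∀ u, R.x s u ∈ R.par C.J) → R.x (S.actw v s) t ∈ R.par C.J := by
    intro s hs
    obtain ⟨e, he, h⟩ := R.nw_conj v s
    have := h (e * t)
    rw [← mul_assoc, he, one_mul] at this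
    rw [← this]
    exact mul_mem (mul_mem (R.nw_mem_par hv) (hs _)) (inv_mem (R.nw_mem_par hv))
  have h1 : ∀ u, R.x (S.simple j) u ∈ R.par C.J := fun u =>
    R.B_le_par _ (R.x_mem_B (S.simple_pos j) u)
  have h2 : ∀ u, R.x (S.neg (S.simple j)) u ∈ R.par C.J := fun u => by
    have hn := R.n_mem_par hj
    have := mul_mem (mul_mem hn (h1 (R.sgn j (S.simple j) * u))) (inv_mem hn)
    rwa [R.n_conj', S.refl_simple, ← mul_assoc, R.sgn_sq, one_mul] at this
  exact ⟨hm _ h1, S.actw_neg v _ ▸ hm _ h2⟩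

section step

variable {R} [DecidableEq I] {C : Step I} (hC : C.Valid S)

/-- The point of `G ⧸ P_J` attached to `c`. -/
def pt (R : RootRel G F S) (C : Step I) (c : ℕ) : G ⧸ R.par C.J := (R.nw (C.word c) : G ⧸ R.par C.J)

include hC

lemma pt_zero : pt R C 0 = ((1 : G) : G ⧸ R.par C.J) := by
  obtain ⟨-, -, -, -, h0, -⟩ := hC
  rw [pt, h0, R.nw_nil]

lemma fix_edge {i : I} {c : ℕ} (h : C.back S i c ∈ C.jList S) : R.n i • pt R C c = pt R C c := by
  show ((R.n i * R.nw (C.word c) : G) : G ⧸ R.par C.J) = _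
  refine QuotientGroup.eq.2 ?_
  obtain ⟨e, he, h'⟩ := R.nw_conj_nr (C.word c) (C.back S i c) 1
  rw [Step.back, S.actw_reverse, mul_one] at h'
  have hx := fun t => R.x_mem_par_of_jList C hC.2.1 h t
  have hn : ∀ u, R.nr (C.back S i c) u ∈ R.par C.J := fun u =>
    mul_mem (mul_mem (hx _).1 (hx _).2) (hx _).1
  have hne : e ≠ 0 := fun h0 => by simp [h0] at he
  have e2 : R.n i = (R.hr (S.simple i) e)⁻¹ * (R.nw (C.word c) * R.nr (C.back S i c) 1 * (R.nw (C.word c))⁻¹) := by
    rw [Step.back, h', R.nr_eq _ e]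
    simp [n]
  have key : (R.nw (C.word c))⁻¹ * R.n i * R.nw (C.word c) ∈ R.par C.J := by
    have e3 : (R.nw (C.word c))⁻¹ * R.n i * R.nw (C.word c) =
        ((R.nw (C.word c))⁻¹ * (R.hr (S.simple i) e)⁻¹ * R.nw (C.word c)) * R.nr (C.back S i c) 1 := by
      rw [e2]; group
    rw [e3]
    exact mul_mem (R.B_le_par _ (R.H_le_B (R.nw_inv_conj_mem_H _ (inv_mem (R.hr_mem_H hne))))) (hn 1)
  have := inv_mem key
  simpa [mul_assoc] using this

lemma sq_smul_pt (i : I) (c : ℕ) : R.n i • R.n i • pt R C c = pt R C c := by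
  rw [← mul_smul]
  exact R.H_smul (R.B_le_par _) _ (R.n_sq_mem_H i)

lemma edge_of_up {d : ℕ}
    (IH : ∀ i c, C.IsUp S i c → C.act i c < d → R.n i • pt R C c = pt R C (C.act i c))
    {i : I} (hi : i ∈ C.K) {c : ℕ} (hc : c < C.m) (hcd : c < d) (hd : C.act i c < d) :
    R.n i • pt R C c = pt R C (C.act i c) := by
  rcases hC.1 i hi c hc with ⟨h, he⟩ | h | ⟨h, he⟩
  · rw [he]; exact fix_edge hC h
  · exact IH i c h hd
  · have := IH i _ h (he.symm ▸ hcd)
    rw [he] at this
    conv_lhs => rw [← this]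
    exact sq_smul_pt hC i _

lemma run_spec {d : ℕ} (hdm : d < C.m) (hd0 : 0 < d)
    (IH : ∀ i c, C.IsUp S i c → C.act i c < d → R.n i • pt R C c = pt R C (C.act i c)) :
    ∀ v c, C.run d v = (c, true) → c < d ∧ R.nw v • ((1 : G) : G ⧸ R.par C.J) = pt R C c := by
  intro v
  induction v with
  | nil =>
    intro c h
    simp only [Step.run, Prod.mk.injEq, and_true] at h
    subst h
    exact ⟨hd0, by rw [R.nw_nil, one_smul, pt_zero hC]⟩
  | cons i v ih =>
    intro c h
    simp only [Step.run, Prod.mk.injEq, Bool.and_eq_true, decide_eq_true_eq] at h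
    obtain ⟨rfl, hb, hi, hlt⟩ := h
    obtain ⟨hp, hq⟩ := ih _ (Prod.ext rfl hb)
    refine ⟨hlt, ?_⟩
    rw [R.nw_cons, mul_smul, hq]
    exact edge_of_up hC IH hi (hp.trans hdm) hp hlt

/-- The edges of the certificate act on the representatives as prescribed. -/
lemma up_edge : ∀ d i c, C.IsUp S i c → C.act i c = d → R.n i • pt R C c = pt R C d := by
  intro d
  induction d using Nat.strong_induction_on with
  | _ d IHd =>
    intro i c h hd
    obtain ⟨-, hlt, hm, hk, hroot, hrun⟩ := h
    rw [hd] at hlt hm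
    simp only [hd] at hk hroot hrun
    set w := C.word d with hw
    set k := C.cut i c with hkdef
    obtain ⟨-, hv⟩ := run_spec hC hm (Nat.lt_of_le_of_lt (Nat.zero_le _) hlt)
      (fun i c h h' => IHd _ h' i c h rfl) _ _ hrun
    -- `n_{pre} n_j n_{pre}⁻¹ ∈ H n_i`
    obtain ⟨e, he, hc'⟩ := R.nw_conj_nr (w.take k) (S.simple w[k]) 1
    rw [hroot, mul_one] at hc'
    have hne : e ≠ 0 := fun h0 => by simp [h0] at he
    have hsplit : R.nw w = R.nw (w.take k) * (R.n w[k] * R.nw (w.drop (k + 1))) := by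
      conv_lhs => rw [← List.take_append_drop k w, List.drop_eq_getElem_cons hk, R.nw_append, R.nw_cons]
    set h0 := R.n i * R.hr (S.simple i) e * R.n i with hh0
    have hh0 : h0 ∈ R.H := by
      have := mul_mem (R.n_conj_mem_H i (R.hr_mem_H (r := S.simple i) hne)) (R.n_sq_mem_H i)
      simpa [h0, mul_assoc] using this
    have e2 : R.n i * R.nw w = h0 * R.nw (w.take k ++ w.drop (k + 1)) := by
      rw [hsplit, R.nw_append]
      have : R.n w[k] = (R.nw (w.take k))⁻¹ * R.nr (S.simple i) e * R.nw (w.take k) := by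
        rw [← hc']; simp only [n]; group
      rw [this, R.nr_eq _ e]
      simp only [h0, n]
      group
    have e3 : R.n i • pt R C d = pt R C c := by
      have : R.n i • pt R C d = (R.n i * R.nw w) • ((1 : G) : G ⧸ R.par C.J) := by
        show R.n i • ((R.nw w : G) : G ⧸ R.par C.J) = _
        rw [mul_smul]
        show _ = R.n i • ((R.nw w * 1 : G) : G ⧸ R.par C.J)
        rw [mul_one]
      rw [this, e2, mul_smul, hv]
      exact R.H_smul (R.B_le_par _) _ hh0
    rw [← e3]
    exact sq_smul_pt hC i d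

lemma edge {i : I} (hi : i ∈ C.K) {c : ℕ} (hc : c < C.m) :
    R.n i • pt R C c = pt R C (C.act i c) := by
  obtain ⟨d, hd1, hd2⟩ : ∃ d, c < d ∧ C.act i c < d := ⟨c + C.act i c + 1, by omega, by omega⟩
  exact edge_of_up hC (fun i c h _ => up_edge hC _ i c h rfl) hi hc hd1 hd2

lemma edge_Up {i : I} (hi : i ∈ C.K) {c : ℕ} (hc : c < C.m)
    (h : S.pos (C.back S i c) ∨ C.back S i c ∈ C.jList S) :
    Up R.B (R.par C.J) (R.n i) (R.nw (C.word c)) (R.nw (C.word (C.act i c))) := by
  intro z hz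
  obtain ⟨b, hb, rfl⟩ := mem_cell.1 hz
  obtain ⟨u, hu, h', hh', t, rfl⟩ := R.B_decomp i hb
  obtain ⟨e, hx⟩ := R.nw_inv_conj_x (C.word c) (S.simple i) t
  have hxP : R.x (S.actw (C.word c).reverse (S.simple i)) (e * t) ∈ R.par C.J :=
    h.elim (fun h => R.B_le_par _ (R.x_mem_B h _)) fun h => (R.x_mem_par_of_jList C hC.2.1 h _).1
  have hfix : R.x (S.simple i) t • pt R C c = pt R C c := by
    show ((R.x (S.simple i) t * R.nw (C.word c) : G) : G ⧸ R.par C.J) = _
    refine QuotientGroup.eq.2 ?_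
    have := inv_mem (hx.symm ▸ hxP)
    simpa [mul_assoc] using this
  set b' := (R.n i * u * (R.n i)⁻¹) * (R.n i * h' * (R.n i)⁻¹) with hb'
  have hb'm : b' ∈ R.B :=
    mul_mem (R.U_le_B (R.Ui_le_U i (R.n_conj_Ui i hu))) (R.H_le_B (R.n_conj_mem_H i hh'))
  have e2 : R.n i • ((u * h' * R.x (S.simple i) t * R.nw (C.word c) : G) : G ⧸ R.par C.J) =
      b' • R.n i • R.x (S.simple i) t • pt R C c := by
    rw [← mul_smul, ← mul_smul]
    show ((R.n i * (u * h' * R.x (S.simple i) t * R.nw (C.word c)) : G) : G ⧸ R.par C.J) = _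
    show _ = ((b' * R.n i * R.x (S.simple i) t * R.nw (C.word c) : G) : G ⧸ R.par C.J)
    exact congrArg _ (by simp only [hb']; group)
  rw [e2, hfix, edge hC hi hc]
  exact smul_mem_cell hb'm (self_mem_cell _ _ _)

lemma act_lt {i : I} (hi : i ∈ C.K) {c : ℕ} (hc : c < C.m) : C.act i c < C.m := by
  rcases hC.1 i hi c hc with ⟨-, he⟩ | h | ⟨h, -⟩
  · exact he.symm ▸ hc
  · exact h.2.2.1
  · exact h.2.1.trans h.2.2.1

/-- `P_K` is covered by the cells of the representatives. -/
lemma cover {g : G} (hg : g ∈ R.par C.K) :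
    (g : G ⧸ R.par C.J) ∈ ⋃ c : Fin C.m, cell R.B (R.par C.J) (R.nw (C.word c)) := by
  obtain ⟨-, -, -, hm, h0, -⟩ := id hC
  refine smul_one_mem_iUnion R.B (R.par C.J) (fun i : {i // i ∈ C.K} => R.n i.1)
    (fun c : Fin C.m => R.nw (C.word c)) (R.B_le_par _) ⟨0, hm⟩ (by simp [h0])
    (fun i => R.H_le_B (R.n_sq_mem_H i.1)) (fun i => R.rankOne i.1) ?_ ?_
  · rintro ⟨i, hi⟩ ⟨c, hc⟩
    rcases hC.1 i hi c hc with ⟨h, -⟩ | h | ⟨h, he⟩
    · exact Or.inl ⟨⟨_, act_lt hC hi hc⟩, edge_Up hC hi hc (Or.inr h)⟩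
    · exact Or.inl ⟨⟨_, act_lt hC hi hc⟩, edge_Up hC hi hc (Or.inl h.1)⟩
    · refine Or.inr ⟨⟨_, act_lt hC hi hc⟩, ?_⟩
      have := edge_Up (R := R) hC hi (act_lt hC hi hc) (Or.inl h.1)
      rwa [he] at this
  · have : Set.range (fun i : {i // i ∈ C.K} => R.n i.1) = R.n '' {i | i ∈ C.K} := by
      ext; simp
    rw [this]; exact hg

lemma card_cell [Finite F]
    (hdisj : ∀ c d, c < C.m → d < C.m →
      cell R.B (R.par C.J) (R.nw (C.word c)) = cell R.B (R.par C.J) (R.nw (C.word d)) → c = d) :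
    ∀ c < C.m, (cell R.B (R.par C.J) (R.nw (C.word c))).Finite ∧
      Nat.card (cell R.B (R.par C.J) (R.nw (C.word c))) = Nat.card F ^ (C.word c).length := by
  intro c
  induction c using Nat.strong_induction_on with
  | _ c IH =>
    intro hc
    obtain ⟨-, -, -, -, h0, hpar⟩ := id hC
    by_cases h : c = 0
    · subst h
      rw [h0, R.nw_nil, cell_one (R.B_le_par _) (one_mem _)]
      simp
    · obtain ⟨i, hi, hhead, hact, hup, htail⟩ := hpar c hc h
      have hlt : C.act i c < c := by simpa [hact] using hup.2.1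
      have hm := hlt.trans hc
      obtain ⟨hfin, hcard⟩ := IH _ hlt hm
      have hU := edge_Up (R := R) hC hi hm (Or.inl hup.1)
      rw [hact] at hU
      have hne : cell R.B (R.par C.J) (R.nw (C.word (C.act i c))) ≠
          cell R.B (R.par C.J) (R.nw (C.word c)) := fun h => hlt.ne (hdisj _ _ hm hc h)
      have hbij := cell_bijective (R.x (S.simple i)) (fun t => R.x_mem_B (S.simple_pos i) t)
        (fun b hb => R.B_mul_n i hb) (fun s t hst => R.x_n_sep i hst) hU hne
      refine ⟨hbij.image_eq ▸ ((Set.finite_univ.prod hfin).image _), ?_⟩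
      rw [card_cell_up (R.x (S.simple i)) (fun t => R.x_mem_B (S.simple_pos i) t)
        (fun b hb => R.B_mul_n i hb) (fun s t hst => R.x_n_sep i hst) hU hne, hcard, htail,
        ← pow_succ']
      congr 1
      cases hcw : C.word c with
      | nil => simp [hcw] at hhead
      | cons a l => simp

/-- The number of cosets of `P_J` in `P_K`. -/
theorem relIndex_par [Finite F]
    (hdisj : ∀ c d, c < C.m → d < C.m →
      cell R.B (R.par C.J) (R.nw (C.word c)) = cell R.B (R.par C.J) (R.nw (C.word d)) → c = d) :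
    (R.par C.J).relIndex (R.par C.K) = ∑ c : Fin C.m, Nat.card F ^ (C.word c).length := by
  rw [relIndex_eq_sum R.B (R.par C.J) (R.par C.K) (fun c : Fin C.m => R.nw (C.word c)) (R.B_le_par _)]
  · exact Finset.sum_congr rfl fun c _ => (card_cell hC hdisj c c.2).2
  · intro c
    refine R.nw_mem_par ?_
    obtain ⟨-, -, -, -, h0, hpar⟩ := hC
    have key : ∀ c, c < C.m → ∀ j ∈ C.word c, j ∈ C.K := by
      intro c
      induction c using Nat.strong_induction_on with
      | _ c IH =>
        intro hc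
        by_cases h : c = 0
        · subst h; simp [h0]
        · obtain ⟨i, hi, hhead, hact, hup, htail⟩ := hpar c hc h
          have hlt : C.act i c < c := by simpa [hact] using hup.2.1
          intro j hj
          cases hcw : C.word c with
          | nil => simp [hcw] at hj
          | cons a l =>
            rw [hcw] at hj hhead htail
            rcases List.mem_cons.1 hj with rfl | hj
            · simp at hhead; exact hhead ▸ hi
            · exact IH _ hlt (hlt.trans hc) j (by rw [htail]; simpa using hj)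
    exact key c c.2
  · intro g hg; exact cover hC hg
  · intro c d h; exact Fin.ext (hdisj c d c.2 d.2 h)
  · intro c; exact (card_cell hC hdisj c c.2).1

end step

end RootRel

end Cfsg.Agent.ChevGroup
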